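import Mathlib
import Groth.Agent.GenFree.Algebra

/-!
# Spreading topological properties of the generic fibre of a finite type algebra

All statements are about primes `q` of `B` and their contractions to `R`; the generic fibre consists
of the primes contracting to the prime `nilradical R`.
-/

set_option autoImplicit false
set_option linter.style.haveILetI false

universe u

open TensorProduct

namespace Groth.Agent.NearGen

section Domain

variable {R B : Type u} [CommRing R] [IsDomain R] [CommRing B] [Algebra R B] [Algebra.FiniteType R B]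

theorem exists_freeAt : ∃ r : R, r ≠ 0 ∧ GenFree.FreeAt R B r := by
  obtain ⟨r, -, hr, hfree, -⟩ := GenFree.exists_algebra (R := R) (S := B) (g := (1 : R)) one_ne_zero
  exact ⟨r, hr, hfree⟩

omit [Algebra.FiniteType R B] in
/-- An element in every prime over the generic point is nilpotent up to a nonzero scalar. -/
theorem exists_smul_pow_eq_zero {b : B} (h : ∀ q : Ideal B, q.IsPrime → q.under R = ⊥ → b ∈ q) :
    ∃ (a : R) (n : ℕ), a ≠ 0 ∧ a • b ^ n = 0 := by
  classical
  let S : Submonoid B := Algebra.algebraMapSubmonoid B (nonZeroDivisors R) ⊔ Submonoid.powers b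
  by_cases h0 : (0 : B) ∈ S
  · obtain ⟨_, ⟨a, ha, rfl⟩, _, ⟨n, rfl⟩, hy⟩ := Submonoid.mem_sup.1 h0
    exact ⟨a, n, nonZeroDivisors.ne_zero ha, by rw [Algebra.smul_def]; exact hy⟩
  · obtain ⟨q, hq, -, hd⟩ := Ideal.exists_le_prime_disjoint (⊥ : Ideal B) S
      (Set.disjoint_left.2 fun x hx hxS => h0 (by rwa [Ideal.mem_bot.1 hx] at hxS))
    refine absurd (h q hq ?_) fun hb =>
      Set.disjoint_left.1 hd hb ((le_sup_right : Submonoid.powers b ≤ S) ⟨1, pow_one b⟩)
    refine eq_bot_iff.2 fun a ha => by_contra fun ha0 => ?_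
    exact Set.disjoint_left.1 hd ha
      ((le_sup_left : Algebra.algebraMapSubmonoid B (nonZeroDivisors R) ≤ S)
        ⟨a, mem_nonZeroDivisors_of_ne_zero ha0, rfl⟩)

/-- An ideal containing the generic fibre contains the nearby fibres. -/
theorem exists_le_of_generic (I : Ideal B) (h : ∀ q : Ideal B, q.IsPrime → q.under R = ⊥ → I ≤ q) :
    ∃ r : R, r ≠ 0 ∧ ∀ q : Ideal B, q.IsPrime → r ∉ q.under R → I ≤ q := by
  obtain ⟨r, hr, hfree⟩ := exists_freeAt (R := R) (B := B)
  refine ⟨r, hr, fun q hq hrq b hb => ?_⟩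
  obtain ⟨a, n, ha, hab⟩ := exists_smul_pow_eq_zero fun q hq hq0 => h q hq hq0 hb
  haveI : Module.Free (Localization.Away r) (Localization.Away r ⊗[R] B) := hfree
  haveI : IsDomain (Localization.Away r) :=
    IsLocalization.isDomain_localization (powers_le_nonZeroDivisors_of_noZeroDivisors hr)
  haveI : Module.IsTorsionFree (Localization.Away r) (Localization.Away r ⊗[R] B) := inferInstance
  have h1 : algebraMap R (Localization.Away r) a • ((1 : Localization.Away r) ⊗ₜ[R] b ^ n) = 0 := by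
    rw [algebraMap_smul]
    refine Eq.trans (Eq.symm ?_) (show (1 : Localization.Away r) ⊗ₜ[R] (a • b ^ n) = 0 by rw [hab, TensorProduct.tmul_zero])
    simp [TensorProduct.tmul_smul]
  have h2 : ((1 : Localization.Away r) ⊗ₜ[R] b ^ n) = 0 := by
    refine (smul_eq_zero.1 h1).resolve_left fun hh => ha ?_
    exact IsLocalization.injective (Localization.Away r) (powers_le_nonZeroDivisors_of_noZeroDivisors hr)
      (hh.trans (map_zero _).symm)
  obtain ⟨⟨_, k, rfl⟩, hk⟩ := (IsLocalizedModule.eq_zero_iff (Submonoid.powers r)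
    (TensorProduct.mk R (Localization.Away r) B 1) (m := b ^ n)).1 (by simpa using h2)
  have h3 : algebraMap R B (r ^ k) * b ^ n ∈ q := by
    rw [← Algebra.smul_def]
    exact (show r ^ k • b ^ n = 0 from hk) ▸ q.zero_mem
  rcases hq.mem_or_mem h3 with h4 | h4
  · rw [map_pow] at h4
    exact absurd (hq.mem_of_pow_mem k h4) hrq
  · exact hq.mem_of_pow_mem n h4

omit [Algebra.FiniteType R B] in
/-- An ideal missing the generic fibre misses the nearby fibres. -/
theorem exists_not_le_of_generic (I : Ideal B) (h : ∀ q : Ideal B, q.IsPrime → q.under R = ⊥ → ¬ I ≤ q) :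
    ∃ r : R, r ≠ 0 ∧ ∀ q : Ideal B, q.IsPrime → r ∉ q.under R → ¬ I ≤ q := by
  by_contra hno
  push Not at hno
  have hdisj : Disjoint (I : Set B) (Algebra.algebraMapSubmonoid B (nonZeroDivisors R) : Set B) := by
    refine Set.disjoint_left.2 fun x hxI ⟨a, ha, hax⟩ => ?_
    obtain ⟨q, -, haq, hIq⟩ := hno a (nonZeroDivisors.ne_zero ha)
    exact haq (hIq (show algebraMap R B a ∈ I from hax ▸ hxI))
  obtain ⟨q, hq, hIq, hd⟩ := Ideal.exists_le_prime_disjoint I _ hdisj
  exact h q hq (eq_bot_iff.2 fun a ha => by_contra fun ha0 =>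
    Set.disjoint_left.1 hd ha ⟨a, mem_nonZeroDivisors_of_ne_zero ha0, rfl⟩) hIq

/-- A nonempty generic fibre gives nonempty nearby fibres. -/
theorem exists_prime_over (q₀ : Ideal B) [q₀.IsPrime] (h : q₀.under R = ⊥) :
    ∃ r : R, r ≠ 0 ∧ ∀ p : Ideal R, p.IsPrime → r ∉ p → ∃ q : Ideal B, q.IsPrime ∧ q.under R = p := by
  obtain ⟨r, hr, hfree⟩ := exists_freeAt (R := R) (B := B)
  haveI : Module.Free (Localization.Away r) (Localization.Away r ⊗[R] B) := hfree
  haveI : Nontrivial (Localization.Away r ⊗[R] B) := by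
    refine ⟨⟨(1 : Localization.Away r) ⊗ₜ[R] (1 : B), 0, fun h1 => ?_⟩⟩
    obtain ⟨⟨_, k, rfl⟩, hk⟩ := (IsLocalizedModule.eq_zero_iff (Submonoid.powers r)
      (TensorProduct.mk R (Localization.Away r) B 1) (m := (1 : B))).1 (by simpa using h1)
    have h2 : algebraMap R B r ^ k ∈ q₀ := by
      rw [← map_pow, ← mul_one (algebraMap R B (r ^ k)), ← Algebra.smul_def]
      exact (show r ^ k • (1 : B) = 0 from hk) ▸ q₀.zero_mem
    have h3 : r ∈ q₀.under R := Ideal.IsPrime.mem_of_pow_mem (Ideal.comap_isPrime _ _) k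
      (show algebraMap R B (r ^ k) ∈ q₀ by rwa [map_pow])
    rw [h] at h3
    exact hr h3
  refine ⟨r, hr, fun p hp hrp => ?_⟩
  obtain ⟨P, hP⟩ : (⟨p, hp⟩ : PrimeSpectrum R) ∈
      Set.range (PrimeSpectrum.comap (algebraMap R (Localization.Away r))) := by
    rw [PrimeSpectrum.localization_away_comap_range (Localization.Away r) r]
    exact hrp
  obtain ⟨Q, hQ⟩ := PrimeSpectrum.comap_surjective_of_faithfullyFlat (B := Localization.Away r ⊗[R] B) P
  refine ⟨Q.asIdeal.comap (Algebra.TensorProduct.includeRight : B →ₐ[R] Localization.Away r ⊗[R] B),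
    Ideal.comap_isPrime _ _, ?_⟩
  ext a
  show (Algebra.TensorProduct.includeRight : B →ₐ[R] Localization.Away r ⊗[R] B) (algebraMap R B a) ∈ Q.asIdeal ↔ a ∈ p
  rw [AlgHom.commutes, IsScalarTower.algebraMap_apply R (Localization.Away r) (Localization.Away r ⊗[R] B)]
  rw [show p = (PrimeSpectrum.comap (algebraMap R (Localization.Away r)) P).asIdeal from by rw [hP], ← hQ]
  rfl

/-- An ideal containing no component of the generic fibre contains no component of the nearby fibres. -/
theorem exists_not_le_minimal (I : Ideal B)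
    (h : ∀ q : Ideal B, q.IsPrime → q.under R = ⊥ →
      (∀ q' : Ideal B, q'.IsPrime → q'.under R = ⊥ → q' ≤ q → q' = q) → ¬ I ≤ q) :
    ∃ r : R, r ≠ 0 ∧ ∀ q : Ideal B, q.IsPrime → r ∉ q.under R →
      (∀ q' : Ideal B, q'.IsPrime → q'.under R = q.under R → q' ≤ q → q' = q) → ¬ I ≤ q := by
  classical
  let S := Algebra.algebraMapSubmonoid B (nonZeroDivisors R)
  let Bη := Localization S
  haveI : IsNoetherianRing Bη := by
    letI : Algebra (FractionRing R) Bη := localizationAlgebra (nonZeroDivisors R) B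
    haveI : IsScalarTower R (FractionRing R) Bη := .of_algebraMap_eq fun a => by
      show _ = IsLocalization.map Bη (algebraMap R B) _ _
      rw [IsLocalization.map_eq, ← IsScalarTower.algebraMap_apply]
    haveI : Algebra.EssFiniteType B Bη := .of_isLocalization Bη S
    haveI : Algebra.EssFiniteType R Bη := .comp R B Bη
    haveI : Algebra.EssFiniteType (FractionRing R) Bη := .of_comp R (FractionRing R) Bη
    exact Algebra.EssFiniteType.isNoetherianRing (FractionRing R) Bη
  have hfin := minimalPrimes.finite_of_isNoetherianRing Bη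
  have hunder : ∀ P : PrimeSpectrum Bη, (P.asIdeal.comap (algebraMap B Bη)).under R = ⊥ := fun P => by
    refine eq_bot_iff.2 fun a ha => by_contra fun ha0 => ?_
    exact P.isPrime.ne_top (Ideal.eq_top_of_isUnit_mem _ ha
      (IsLocalization.map_units Bη (⟨algebraMap R B a, a, mem_nonZeroDivisors_of_ne_zero ha0, rfl⟩ : S)))
  have hdisj : ∀ q : Ideal B, q.under R = ⊥ → Disjoint (S : Set B) (q : Set B) := fun q hq =>
    Set.disjoint_left.2 fun _ ⟨a, ha, hax⟩ hx => nonZeroDivisors.ne_zero ha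
      (Ideal.mem_bot.1 (hq ▸ (show a ∈ q.under R from show algebraMap R B a ∈ q by rw [hax]; exact hx)))
  obtain ⟨g, hg, hgmin⟩ : ∃ g ∈ I, ∀ P ∈ minimalPrimes Bη, algebraMap B Bη g ∉ P := by
    by_contra hno
    push Not at hno
    have hsub : (I : Set B) ⊆ ⋃ P ∈ (hfin.toFinset : Set (Ideal Bη)), (P.comap (algebraMap B Bη) : Set B) :=
      fun g hg => by
        obtain ⟨P, hP, hgP⟩ := hno g hg
        exact Set.mem_iUnion₂.2 ⟨P, hfin.mem_toFinset.2 hP, hgP⟩
    obtain ⟨P, hP, hIP⟩ := (Ideal.subset_union_prime ⊥ ⊥ (fun P hP _ _ => by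
      haveI : P.IsPrime := (hfin.mem_toFinset.1 hP).1.1
      exact Ideal.comap_isPrime _ _)).1 hsub
    have hPmin : P ∈ minimalPrimes Bη := hfin.mem_toFinset.1 hP
    haveI : P.IsPrime := hPmin.1.1
    refine h (P.comap (algebraMap B Bη)) (Ideal.comap_isPrime _ _) (hunder ⟨P, inferInstance⟩)
      (fun q' hq' hq'0 hle => ?_) hIP
    have hprime := IsLocalization.isPrime_of_isPrime_disjoint S Bη q' hq' (hdisj q' hq'0)
    have hle' : q'.map (algebraMap B Bη) ≤ P := Ideal.map_le_iff_le_comap.2 hle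
    have heq : q'.map (algebraMap B Bη) = P := le_antisymm hle' (hPmin.2 ⟨hprime, bot_le⟩ hle')
    rw [← heq]
    exact (IsLocalization.under_map_of_isPrime_disjoint S Bη hq' (hdisj q' hq'0)).symm
  -- kill the nilpotents of the generic fibre
  let N : Ideal B := (nilradical Bη).comap (algebraMap B Bη)
  obtain ⟨r₁, hr₁, hN⟩ := exists_le_of_generic (R := R) N fun q hq hq0 => by
    have hprime := IsLocalization.isPrime_of_isPrime_disjoint S Bη q hq (hdisj q hq0)
    rw [← IsLocalization.under_map_of_isPrime_disjoint S Bη hq (hdisj q hq0)]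
    exact Ideal.comap_mono (nilradical_le_prime _)
  -- multiplication by `g` on `B ⧸ N`
  have hreg : ∀ b : B, g * b ∈ N → b ∈ N := fun b hb => by
    show algebraMap B Bη b ∈ nilradical Bη
    rw [nilradical_eq_sInf, Submodule.mem_sInf]
    intro P hP
    haveI : Ideal.IsPrime P := hP
    obtain ⟨P', hP', hle⟩ := Ideal.exists_minimalPrimes_le (I := (⊥ : Ideal Bη)) (J := P) bot_le
    haveI := hP'.1.1
    refine hle ?_
    have h1 : algebraMap B Bη (g * b) ∈ P' := nilradical_le_prime P' hb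
    rw [map_mul] at h1
    exact (hP'.1.1.mem_or_mem h1).resolve_left (hgmin P' hP')
  haveI : Algebra.FiniteType R (B ⧸ N) :=
    Algebra.FiniteType.of_surjective (Ideal.Quotient.mkₐ R N) Ideal.Quotient.mk_surjective
  haveI : Algebra.FiniteType R (B ⧸ (N ⊔ Ideal.span {g})) :=
    Algebra.FiniteType.of_surjective (Ideal.Quotient.mkₐ R _) Ideal.Quotient.mk_surjective
  obtain ⟨r₂, hr₂, hfree₂⟩ := exists_freeAt (R := R) (B := B ⧸ N)
  obtain ⟨r₃, hr₃, hfree₃⟩ := exists_freeAt (R := R) (B := B ⧸ (N ⊔ Ideal.span {g}))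
  refine ⟨r₁ * r₂ * r₃, mul_ne_zero (mul_ne_zero hr₁ hr₂) hr₃, fun q hq hrq hqmin hIq => ?_⟩
  haveI := hq
  have hr1q : r₁ ∉ q.under R := fun h => hrq (Ideal.mul_mem_right _ _ (Ideal.mul_mem_right _ _ h))
  have hr2q : r₂ ∉ q.under R := fun h => hrq (Ideal.mul_mem_right _ _ (Ideal.mul_mem_left _ _ h))
  have hr3q : r₃ ∉ q.under R := fun h => hrq (Ideal.mul_mem_left _ _ h)
  let p := q.under R
  let κ := p.ResidueField
  -- the fibre of `B ⧸ N` at `p` and the prime given by `q`
  let φ : B →ₐ[R] κ ⊗[R] (B ⧸ N) := Algebra.TensorProduct.includeRight.comp (Ideal.Quotient.mkₐ R N)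
  -- multiplication by `g` stays injective on the fibre
  let μ : (B ⧸ N) →ₗ[R] (B ⧸ N) := LinearMap.mulLeft R (Ideal.Quotient.mk N g)
  let π : (B ⧸ N) →ₗ[R] B ⧸ (N ⊔ Ideal.span {g}) :=
    (Ideal.Quotient.factorₐ R (le_sup_left : N ≤ N ⊔ Ideal.span {g})).toLinearMap
  have hex : Function.Exact μ π := by
    intro x
    obtain ⟨x, rfl⟩ := Ideal.Quotient.mk_surjective x
    refine ⟨fun hx => ?_, ?_⟩
    · rw [show π (Ideal.Quotient.mk N x) = Ideal.Quotient.mk _ x from rfl, Ideal.Quotient.eq_zero_iff_mem,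
        Submodule.mem_sup] at hx
      obtain ⟨y, hy, z, hz, rfl⟩ := hx
      obtain ⟨c, rfl⟩ := Ideal.mem_span_singleton'.1 hz
      refine ⟨Ideal.Quotient.mk N c, ?_⟩
      show Ideal.Quotient.mk N g * Ideal.Quotient.mk N c = _
      rw [map_add, Ideal.Quotient.eq_zero_iff_mem.2 hy, zero_add, map_mul, mul_comm]
    · rintro ⟨y, hy⟩
      obtain ⟨y, rfl⟩ := Ideal.Quotient.mk_surjective y
      rw [← hy]
      show π (Ideal.Quotient.mk N g * Ideal.Quotient.mk N y) = 0
      rw [← map_mul]
      exact Ideal.Quotient.eq_zero_iff_mem.2 (Ideal.mul_mem_right _ _ (Ideal.mem_sup_right (Ideal.mem_span_singleton_self g)))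
  have hπ : Function.Surjective π := Ideal.Quotient.factor_surjective le_sup_left
  have hμ : Function.Injective μ := by
    refine (injective_iff_map_eq_zero μ).2 fun x hx => ?_
    obtain ⟨x, rfl⟩ := Ideal.Quotient.mk_surjective x
    rw [show μ (Ideal.Quotient.mk N x) = Ideal.Quotient.mk N (g * x) from (map_mul _ _ _).symm,
      Ideal.Quotient.eq_zero_iff_mem] at hx
    exact Ideal.Quotient.eq_zero_iff_mem.2 (hreg x hx)
  let A := Localization.Away (r₂ * r₃)
  haveI : Module.Flat R A := IsLocalization.flat _ (Submonoid.powers (r₂ * r₃))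
  have hu2 : IsUnit (algebraMap R A r₂) :=
    isUnit_of_dvd_unit (map_dvd _ (dvd_mul_right _ _)) (IsLocalization.Away.algebraMap_isUnit (r₂ * r₃))
  have hu3 : IsUnit (algebraMap R A r₃) :=
    isUnit_of_dvd_unit (map_dvd _ (dvd_mul_left _ _)) (IsLocalization.Away.algebraMap_isUnit (r₂ * r₃))
  haveI : Module.Free A (A ⊗[R] (B ⧸ (N ⊔ Ideal.span {g}))) := hfree₃.free A hu3
  haveI : Module.Free A (A ⊗[R] (B ⧸ N)) := hfree₂.free A hu2
  have hμA : Function.Injective (μ.baseChange A) := Module.Flat.lTensor_preserves_injective_linearMap μ hμ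
  have hexA : Function.Exact (μ.baseChange A) (π.baseChange A) := lTensor_exact A hex hπ
  have hπA : Function.Surjective (π.baseChange A) := LinearMap.lTensor_surjective A hπ
  obtain ⟨s, hs⟩ := Module.projective_lifting_property (π.baseChange A) LinearMap.id hπA
  obtain ⟨l, hl⟩ : ∃ l : A ⊗[R] (B ⧸ N) →ₗ[A] A ⊗[R] (B ⧸ N), l ∘ₗ μ.baseChange A = LinearMap.id := by
    obtain ⟨l, hl⟩ := (hexA.split_tfae hμA hπA |>.out 0 1 rfl rfl).1 ⟨s, hs⟩
    exact ⟨l, hl⟩
  have hrp : IsUnit (algebraMap R κ (r₂ * r₃)) := Ne.isUnit (by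
    rw [Ne, Ideal.algebraMap_residueField_eq_zero]
    exact fun h => (Ideal.IsPrime.mem_or_mem (inferInstance : p.IsPrime) h).elim hr2q hr3q)
  letI : Algebra A κ := (IsLocalization.Away.lift (r₂ * r₃) hrp).toAlgebra
  haveI : IsScalarTower R A κ := .of_algebraMap_eq fun a => (IsLocalization.Away.lift_eq (r₂ * r₃) hrp a).symm
  have hμκ : Function.Injective (μ.baseChange κ) := by
    let e := TensorProduct.AlgebraTensorModule.cancelBaseChange R A κ κ (B ⧸ N)
    have h1 : ∀ z, e ((μ.baseChange A).baseChange κ z) = μ.baseChange κ (e z) := fun z => by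
      induction z using TensorProduct.induction_on with
      | zero => simp
      | add x y hx hy => simp [hx, hy]
      | tmul c w =>
        induction w using TensorProduct.induction_on with
        | zero => simp
        | add x y hx hy => simp only [TensorProduct.tmul_add, map_add, hx, hy]
        | tmul a x => simp [e]
    refine (injective_iff_map_eq_zero (μ.baseChange κ)).2 fun x hx => ?_
    obtain ⟨z, rfl⟩ := e.surjective x
    rw [← h1] at hx
    have h2 : (μ.baseChange A).baseChange κ z = 0 := e.injective (hx.trans (map_zero e).symm)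
    have h3 := congrArg (l.baseChange κ) h2
    rw [map_zero, ← LinearMap.comp_apply, ← LinearMap.baseChange_comp, hl, LinearMap.baseChange_id,
      LinearMap.id_apply] at h3
    rw [h3, map_zero]
  have hmul : ∀ x, μ.baseChange κ x = φ g * x := fun x => by
    induction x using TensorProduct.induction_on with
    | zero => simp
    | add a b ha hb => rw [map_add, mul_add, ha, hb]
    | tmul c w => simp [φ, μ, Algebra.TensorProduct.tmul_mul_tmul]
  have hgreg : φ g ∈ nonZeroDivisors (κ ⊗[R] (B ⧸ N)) := by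
    refine mem_nonZeroDivisors_iff_right.2 fun x hx => hμκ ?_
    rw [map_zero, hmul, mul_comm]
    exact hx
  -- the prime of the fibre given by `q`
  have hNq : N ≤ q := hN q hq hr1q
  let qN : Ideal (B ⧸ N) := q.map (Ideal.Quotient.mk N)
  haveI : qN.IsPrime := Ideal.map_isPrime_of_surjective Ideal.Quotient.mk_surjective (by rwa [Ideal.mk_ker])
  have hqN : qN.comap (Ideal.Quotient.mk N) = q := by
    show (q.map (Ideal.Quotient.mk N)).comap (Ideal.Quotient.mk N) = q
    rw [Ideal.comap_map_of_surjective _ Ideal.Quotient.mk_surjective, ← RingHom.ker_eq_comap_bot, Ideal.mk_ker]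
    exact sup_eq_left.2 hNq
  have hqNp : (⟨qN, inferInstance⟩ : PrimeSpectrum (B ⧸ N)) ∈
      PrimeSpectrum.comap (algebraMap R (B ⧸ N)) ⁻¹' {⟨p, inferInstance⟩} := PrimeSpectrum.ext (by
    show qN.comap (algebraMap R (B ⧸ N)) = q.under R
    rw [← hqN, Ideal.under, Ideal.comap_comap]
    rfl)
  let e := PrimeSpectrum.preimageHomeomorphFiber R (B ⧸ N) ⟨p, inferInstance⟩
  let Q := e ⟨_, hqNp⟩
  have hQq : Q.asIdeal.comap φ = q := by
    have h1 : Q.asIdeal.comap (Algebra.TensorProduct.includeRight : (B ⧸ N) →ₐ[R] κ ⊗[R] (B ⧸ N)) = qN :=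
      congrArg (fun w => w.1.asIdeal) (e.symm_apply_apply ⟨_, hqNp⟩)
    refine Eq.trans ?_ hqN
    rw [← h1]
    rfl
  have hQmin : Q.asIdeal ∈ minimalPrimes (κ ⊗[R] (B ⧸ N)) := by
    refine ⟨⟨Q.isPrime, bot_le⟩, fun Q' ⟨hQ', _⟩ hle => ?_⟩
    haveI := hQ'
    have h2 : Q'.comap φ = q := hqmin (Q'.comap φ) (Ideal.comap_isPrime _ _)
      (congrArg PrimeSpectrum.asIdeal (show PrimeSpectrum.comap (algebraMap R (B ⧸ N))
        ((e.symm ⟨Q', hQ'⟩).1) = ⟨p, inferInstance⟩ from (e.symm ⟨Q', hQ'⟩).2))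
      ((Ideal.comap_mono hle).trans hQq.le)
    have h3 : e.symm ⟨Q', hQ'⟩ = e.symm Q := by
      refine Subtype.ext (PrimeSpectrum.ext (Ideal.comap_injective_of_surjective (Ideal.Quotient.mk N)
        Ideal.Quotient.mk_surjective ?_))
      exact h2.trans hQq.symm
    exact (congrArg PrimeSpectrum.asIdeal (e.symm.injective h3)).ge
  refine Set.disjoint_left.1 (Ideal.disjoint_nonZeroDivisors_of_mem_minimalPrimes hQmin) ?_ hgreg
  show g ∈ Q.asIdeal.comap φ
  rw [hQq]
  exact hIq hg

end Domain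

end Groth.Agent.NearGen
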