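import Mathlib
import Groth.Agent.NearGen.Ring

/-!
# Spreading topological properties of the generic fibre, for schemes
-/

set_option autoImplicit false
set_option linter.style.haveILetI false

universe u

open CategoryTheory AlgebraicGeometry TopologicalSpace

namespace Groth.Agent.NearGen

section Transfer

variable {R B : Type u} [CommRing R] [CommRing B] [Algebra R B] [Algebra.FiniteType R B]
  (p₀ : Ideal R) [p₀.IsPrime] (hp₀ : ∀ q : Ideal R, q.IsPrime → p₀ ≤ q)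

local notation "Bb" => (B ⧸ p₀.map (algebraMap R B))

include hp₀ in
omit [Algebra.FiniteType R B] in
theorem map_le (q : Ideal B) [q.IsPrime] : p₀.map (algebraMap R B) ≤ q :=
  Ideal.map_le_iff_le_comap.2 (hp₀ _ (Ideal.comap_isPrime _ _))

/-- Descend a set of primes to the reduction. -/
theorem transfer (P : Ideal B → Prop) (Q : Ideal B → Prop)
    (hdom : ∀ (S : Type u) [CommRing S] [Algebra (R ⧸ p₀) S] [Algebra.FiniteType (R ⧸ p₀) S] (π : B →+* S),
      Function.Surjective π → (∀ q : Ideal B, q.IsPrime → RingHom.ker π ≤ q) → π.comp (algebraMap R B) = (algebraMap (R ⧸ p₀) S).comp (Ideal.Quotient.mk p₀) →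
      (∀ q : Ideal S, q.IsPrime → q.under (R ⧸ p₀) = ⊥ → P (q.comap π)) →
      ∃ r : R ⧸ p₀, r ≠ 0 ∧ ∀ q : Ideal S, q.IsPrime → r ∉ q.under (R ⧸ p₀) → Q (q.comap π))
    (hp₀ : ∀ q : Ideal R, q.IsPrime → p₀ ≤ q)
    (h : ∀ q : Ideal B, q.IsPrime → q.under R = p₀ → P q) :
    ∃ r : R, r ∉ p₀ ∧ ∀ q : Ideal B, q.IsPrime → r ∉ q.under R → Q q := by
  letI : Algebra (R ⧸ p₀) Bb := (Ideal.quotientMap _ (algebraMap R B) Ideal.le_comap_map).toAlgebra
  haveI : IsScalarTower R (R ⧸ p₀) Bb := IsScalarTower.of_algebraMap_eq fun _ => rfl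
  haveI : Algebra.FiniteType R Bb :=
    Algebra.FiniteType.of_surjective (Ideal.Quotient.mkₐ R _) Ideal.Quotient.mk_surjective
  haveI : Algebra.FiniteType (R ⧸ p₀) Bb := Algebra.FiniteType.of_restrictScalars_finiteType R (R ⧸ p₀) Bb
  obtain ⟨r, hr, H⟩ := hdom Bb (Ideal.Quotient.mk _) Ideal.Quotient.mk_surjective
      (fun q hq => by haveI := hq; rw [Ideal.mk_ker]; exact map_le p₀ hp₀ q) rfl fun q hq hq0 => by
    haveI := hq
    refine h _ (Ideal.comap_isPrime _ _) ?_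
    rw [Ideal.under, Ideal.comap_comap]
    show q.comap ((algebraMap (R ⧸ p₀) Bb).comp (Ideal.Quotient.mk p₀)) = p₀
    rw [← Ideal.comap_comap]
    show (q.under (R ⧸ p₀)).comap _ = p₀
    rw [hq0, ← RingHom.ker_eq_comap_bot, Ideal.mk_ker]
  obtain ⟨r, rfl⟩ := Ideal.Quotient.mk_surjective r
  refine ⟨r, fun h0 => hr (Ideal.Quotient.eq_zero_iff_mem.2 h0), fun q hq hrq => ?_⟩
  haveI := hq
  haveI : (q.map (Ideal.Quotient.mk (p₀.map (algebraMap R B)))).IsPrime :=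
    Ideal.map_isPrime_of_surjective Ideal.Quotient.mk_surjective (by rw [Ideal.mk_ker]; exact map_le p₀ hp₀ q)
  have hc : (q.map (Ideal.Quotient.mk (p₀.map (algebraMap R B)))).comap (Ideal.Quotient.mk _) = q := by
    rw [Ideal.comap_map_of_surjective _ Ideal.Quotient.mk_surjective, ← RingHom.ker_eq_comap_bot, Ideal.mk_ker]
    exact sup_eq_left.2 (map_le p₀ hp₀ q)
  have h2 := H _ inferInstance fun hr' => hrq (by
    show algebraMap R B r ∈ q
    exact hc.le hr')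
  rwa [hc] at h2

include hp₀

theorem exists_le (I : Ideal B) (h : ∀ q : Ideal B, q.IsPrime → q.under R = p₀ → I ≤ q) :
    ∃ r : R, r ∉ p₀ ∧ ∀ q : Ideal B, q.IsPrime → r ∉ q.under R → I ≤ q := by
  refine transfer p₀ (I ≤ ·) (I ≤ ·) (fun S _ _ _ π hπ _ _ hS => ?_) hp₀ h
  obtain ⟨r, hr, H⟩ := exists_le_of_generic (R := R ⧸ p₀) (I.map π) fun q hq hq0 =>
    Ideal.map_le_iff_le_comap.2 (hS q hq hq0)
  exact ⟨r, hr, fun q hq hrq => Ideal.map_le_iff_le_comap.1 (H q hq hrq)⟩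

theorem exists_not_le (I : Ideal B) (h : ∀ q : Ideal B, q.IsPrime → q.under R = p₀ → ¬ I ≤ q) :
    ∃ r : R, r ∉ p₀ ∧ ∀ q : Ideal B, q.IsPrime → r ∉ q.under R → ¬ I ≤ q := by
  refine transfer p₀ (¬ I ≤ ·) (¬ I ≤ ·) (fun S _ _ _ π hπ _ _ hS => ?_) hp₀ h
  obtain ⟨r, hr, H⟩ := exists_not_le_of_generic (R := R ⧸ p₀) (I.map π) fun q hq hq0 hle =>
    hS q hq hq0 (Ideal.map_le_iff_le_comap.1 hle)
  exact ⟨r, hr, fun q hq hrq hle => H q hq hrq (Ideal.map_le_iff_le_comap.2 hle)⟩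

/-- A nonempty generic fibre of `D(b)` gives nonempty nearby fibres. -/
theorem exists_notMem (b : B) (q₀ : Ideal B) [q₀.IsPrime] (h : q₀.under R = p₀) (hb : b ∉ q₀) :
    ∃ r : R, r ∉ p₀ ∧ ∀ p : Ideal R, p.IsPrime → r ∉ p →
      ∃ q : Ideal B, q.IsPrime ∧ q.under R = p ∧ b ∉ q := by
  letI : Algebra (R ⧸ p₀) Bb := (Ideal.quotientMap _ (algebraMap R B) Ideal.le_comap_map).toAlgebra
  haveI : IsScalarTower R (R ⧸ p₀) Bb := IsScalarTower.of_algebraMap_eq fun _ => rfl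
  haveI : Algebra.FiniteType R Bb :=
    Algebra.FiniteType.of_surjective (Ideal.Quotient.mkₐ R _) Ideal.Quotient.mk_surjective
  haveI : Algebra.FiniteType (R ⧸ p₀) Bb := Algebra.FiniteType.of_restrictScalars_finiteType R (R ⧸ p₀) Bb
  let S := Localization.Away (Ideal.Quotient.mk (p₀.map (algebraMap R B)) b)
  haveI : Algebra.FiniteType (R ⧸ p₀) S := Algebra.FiniteType.trans (S := Bb) inferInstance inferInstance
  let π : B →+* S := (algebraMap Bb S).comp (Ideal.Quotient.mk _)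
  haveI : (q₀.map (Ideal.Quotient.mk (p₀.map (algebraMap R B)))).IsPrime :=
    Ideal.map_isPrime_of_surjective Ideal.Quotient.mk_surjective (by rw [Ideal.mk_ker]; exact map_le p₀ hp₀ q₀)
  have hc : (q₀.map (Ideal.Quotient.mk (p₀.map (algebraMap R B)))).comap (Ideal.Quotient.mk _) = q₀ := by
    rw [Ideal.comap_map_of_surjective _ Ideal.Quotient.mk_surjective, ← RingHom.ker_eq_comap_bot, Ideal.mk_ker]
    exact sup_eq_left.2 (map_le p₀ hp₀ q₀)
  obtain ⟨Q₀, hQ₀⟩ : (⟨q₀.map (Ideal.Quotient.mk (p₀.map (algebraMap R B))), inferInstance⟩ : PrimeSpectrum Bb) ∈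
      Set.range (PrimeSpectrum.comap (algebraMap Bb S)) := by
    rw [PrimeSpectrum.localization_away_comap_range S (Ideal.Quotient.mk (p₀.map (algebraMap R B)) b)]
    exact fun hh => hb (hc.le hh)
  have hQ₀' : Q₀.asIdeal.comap π = q₀ := by
    rw [← Ideal.comap_comap]
    exact (congrArg (fun z : PrimeSpectrum Bb => z.asIdeal.comap (Ideal.Quotient.mk (p₀.map (algebraMap R B)))) hQ₀).trans hc
  have hu : ∀ q : Ideal S, (q.comap π).under R = (q.under (R ⧸ p₀)).comap (Ideal.Quotient.mk p₀) := fun q => by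
    rw [Ideal.under, Ideal.under, Ideal.comap_comap, Ideal.comap_comap]
    congr 1
  obtain ⟨r, hr, H⟩ := exists_prime_over (R := R ⧸ p₀) Q₀.asIdeal (by
    refine Ideal.comap_injective_of_surjective (Ideal.Quotient.mk p₀) Ideal.Quotient.mk_surjective ?_
    rw [← hu, hQ₀', h, ← RingHom.ker_eq_comap_bot, Ideal.mk_ker])
  obtain ⟨r, rfl⟩ := Ideal.Quotient.mk_surjective r
  refine ⟨r, fun h0 => hr (Ideal.Quotient.eq_zero_iff_mem.2 h0), fun p hp hrp => ?_⟩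
  haveI := hp
  haveI : (p.map (Ideal.Quotient.mk p₀)).IsPrime :=
    Ideal.map_isPrime_of_surjective Ideal.Quotient.mk_surjective (by rw [Ideal.mk_ker]; exact hp₀ p hp)
  have hcp : (p.map (Ideal.Quotient.mk p₀)).comap (Ideal.Quotient.mk p₀) = p := by
    rw [Ideal.comap_map_of_surjective _ Ideal.Quotient.mk_surjective, ← RingHom.ker_eq_comap_bot, Ideal.mk_ker]
    exact sup_eq_left.2 (hp₀ p hp)
  obtain ⟨q, hq, hqp⟩ := H (p.map (Ideal.Quotient.mk p₀)) inferInstance fun hh => hrp (hcp.le hh)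
  haveI := hq
  refine ⟨q.comap π, Ideal.comap_isPrime _ _, by rw [hu, hqp, hcp], fun hh => hq.ne_top ?_⟩
  exact Ideal.eq_top_of_isUnit_mem _ hh
    (IsLocalization.Away.algebraMap_isUnit (Ideal.Quotient.mk (p₀.map (algebraMap R B)) b))

theorem exists_not_le_min (I : Ideal B)
    (h : ∀ q : Ideal B, q.IsPrime → q.under R = p₀ →
      (∀ q' : Ideal B, q'.IsPrime → q'.under R = p₀ → q' ≤ q → q' = q) → ¬ I ≤ q) :
    ∃ r : R, r ∉ p₀ ∧ ∀ q : Ideal B, q.IsPrime → r ∉ q.under R →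
      (∀ q' : Ideal B, q'.IsPrime → q'.under R = q.under R → q' ≤ q → q' = q) → ¬ I ≤ q := by
  refine transfer p₀
    (fun q => (∀ q' : Ideal B, q'.IsPrime → q'.under R = p₀ → q' ≤ q → q' = q) → ¬ I ≤ q)
    (fun q => (∀ q' : Ideal B, q'.IsPrime → q'.under R = q.under R → q' ≤ q → q' = q) → ¬ I ≤ q)
    (fun S _ _ _ π hπ hk hcomp hS => ?_) hp₀ h
  have hu : ∀ q : Ideal S, (q.comap π).under R = (q.under (R ⧸ p₀)).comap (Ideal.Quotient.mk p₀) := fun q => by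
    rw [Ideal.under, Ideal.under, Ideal.comap_comap, Ideal.comap_comap, hcomp]
  have hker : ∀ q' : Ideal B, ∀ q : Ideal S, q.IsPrime → q' ≤ q.comap π →
      q'.IsPrime → q'.under R = (q.comap π).under R → RingHom.ker π ≤ q' →
      ∃ q₁ : Ideal S, q₁.IsPrime ∧ q₁ ≤ q ∧ q₁.comap π = q' ∧ q₁.under (R ⧸ p₀) = q.under (R ⧸ p₀) := by
    intro q' q hq hle hq' hu' hk
    haveI := hq'
    have hc : (q'.map π).comap π = q' := by
      rw [Ideal.comap_map_of_surjective _ hπ, ← RingHom.ker_eq_comap_bot]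
      exact sup_eq_left.2 hk
    refine ⟨q'.map π, Ideal.map_isPrime_of_surjective hπ hk, Ideal.map_le_iff_le_comap.2 hle, hc, ?_⟩
    refine Ideal.comap_injective_of_surjective (Ideal.Quotient.mk p₀) Ideal.Quotient.mk_surjective ?_
    rw [← hu, ← hu, hc, hu']
  obtain ⟨r, hr, H⟩ := exists_not_le_minimal (R := R ⧸ p₀) (I.map π) fun q hq hq0 hmin hle => by
    haveI := hq
    refine hS q hq hq0 (fun q' hq' hu' hle' => ?_) (Ideal.map_le_iff_le_comap.1 hle)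
    have hu0 : (q.comap π).under R = p₀ := by rw [hu, hq0, ← RingHom.ker_eq_comap_bot, Ideal.mk_ker]
    obtain ⟨q₁, hq₁, hle₁, hc₁, hu₁⟩ := hker q' q hq hle' hq' (hu'.trans hu0.symm) (hk q' hq')
    rw [← hc₁, hmin q₁ hq₁ (hu₁.trans hq0) hle₁]
  refine ⟨r, hr, fun q hq hrq hmin hle => H q hq hrq (fun q₁ hq₁ hu₁ hle₁ => ?_) (Ideal.map_le_iff_le_comap.2 hle)⟩
  haveI := hq₁
  exact Ideal.comap_injective_of_surjective π hπ
    (hmin (q₁.comap π) (Ideal.comap_isPrime _ _) (by rw [hu, hu, hu₁]) (Ideal.comap_mono hle₁))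

end Transfer

section Scheme

variable {X Y : Scheme.{u}} (f : X ⟶ Y) [IrreducibleSpace Y] [LocallyOfFiniteType f]

omit [IrreducibleSpace Y] [LocallyOfFiniteType f] in
/-- The image of the point of an affine open given by a prime. -/
theorem apply_fromSpec {U : Y.Opens} (hU : IsAffineOpen U) {W : X.Opens} (hW : IsAffineOpen W) (e : W ≤ f ⁻¹ᵁ U)
    (q : PrimeSpectrum Γ(X, W)) :
    f (hW.fromSpec q) = hU.fromSpec (PrimeSpectrum.comap (f.appLE U W e).hom q) := by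
  show _ = hU.fromSpec (Spec.map (f.appLE U W e) q)
  rw [← Scheme.Hom.comp_apply, ← Scheme.Hom.comp_apply, IsAffineOpen.SpecMap_appLE_fromSpec f hU hW e]

omit [IrreducibleSpace Y] in
theorem mem_basicOpen_iff {U : Y.Opens} (hU : IsAffineOpen U) (p : PrimeSpectrum Γ(Y, U)) (r : Γ(Y, U)) :
    hU.fromSpec p ∈ Y.basicOpen r ↔ r ∉ p.asIdeal := by
  show p ∈ hU.fromSpec ⁻¹ᵁ Y.basicOpen r ↔ _
  rw [hU.fromSpec_preimage_basicOpen]
  rfl

/-- An affine neighbourhood of the generic point and its generic prime. -/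
theorem exists_generic_prime {U : Y.Opens} (hU : IsAffineOpen U) (hη : genericPoint Y ∈ U) :
    ∃ p₀ : PrimeSpectrum Γ(Y, U), hU.fromSpec p₀ = genericPoint Y ∧
      ∀ q : Ideal Γ(Y, U), q.IsPrime → p₀.asIdeal ≤ q := by
  obtain ⟨p₀, hp₀⟩ := hU.range_fromSpec.ge hη
  refine ⟨p₀, hp₀, fun q hq => ?_⟩
  refine (PrimeSpectrum.le_iff_specializes p₀ ⟨q, hq⟩).2 ?_
  refine hU.fromSpec.isOpenEmbedding.toIsInducing.specializes_iff.1 ?_
  rw [hp₀]
  exact genericPoint_specializes _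

omit [IrreducibleSpace Y] in
/-- Finitely many affine opens over an affine open. -/
theorem exists_affines [QuasiCompact f] {U : Y.Opens} (hU : IsAffineOpen U) :
    ∃ s : Finset X.Opens, (∀ W ∈ s, IsAffineOpen W ∧ W ≤ f ⁻¹ᵁ U) ∧ ∀ x : X, f x ∈ U → ∃ W ∈ s, x ∈ W := by
  classical
  choose W hW hxW hle using fun x : (f ⁻¹ᵁ U : X.Opens) =>
    exists_isAffineOpen_mem_and_subset (X := X) (x := x.1) (U := f ⁻¹ᵁ U) x.2
  obtain ⟨t, ht⟩ := (f.isCompact_preimage hU.isCompact).elim_finite_subcover (fun x => (W x : Set X))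
    (fun x => (W x).2) (fun x hx => Set.mem_iUnion.2 ⟨⟨x, hx⟩, hxW ⟨x, hx⟩⟩)
  refine ⟨t.image W, fun V hV => ?_, fun x hx => ?_⟩
  · obtain ⟨y, -, rfl⟩ := Finset.mem_image.1 hV
    exact ⟨hW y, hle y⟩
  · obtain ⟨y, hy, hxy⟩ := Set.mem_iUnion₂.1 (ht (show x ∈ (f ⁻¹ᵁ U : Set X) from hx))
    exact ⟨W y, Finset.mem_image_of_mem _ hy, hxy⟩

/-- Combining finitely many charts. -/
theorem exists_nbhd [QuasiCompact f] (P : X → Prop)
    (h : ∀ (U : Y.Opens) (hU : IsAffineOpen U) (W : X.Opens) (hW : IsAffineOpen W) (e : W ≤ f ⁻¹ᵁ U)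
      (p₀ : PrimeSpectrum Γ(Y, U)), hU.fromSpec p₀ = genericPoint Y → (∀ q : Ideal Γ(Y, U), q.IsPrime → p₀.asIdeal ≤ q) →
      ∃ r : Γ(Y, U), r ∉ p₀.asIdeal ∧ ∀ q : PrimeSpectrum Γ(X, W),
        r ∉ (PrimeSpectrum.comap (f.appLE U W e).hom q).asIdeal → P (hW.fromSpec q)) :
    ∃ V : Y.Opens, genericPoint Y ∈ V ∧ ∀ x : X, f x ∈ V → P x := by
  classical
  obtain ⟨U, hU, hη, -⟩ := exists_isAffineOpen_mem_and_subset (X := Y) (x := genericPoint Y) (U := ⊤) trivial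
  obtain ⟨p₀, hp₀, hmin⟩ := exists_generic_prime hU hη
  obtain ⟨s, hs, hcov⟩ := exists_affines f hU
  choose r hr H using fun W : s => h U hU W.1 (hs W.1 W.2).1 (hs W.1 W.2).2 p₀ hp₀ hmin
  refine ⟨Y.basicOpen (∏ W : s, r W), hp₀ ▸ (mem_basicOpen_iff hU p₀ _).2 fun hh => ?_, fun x hx => ?_⟩
  · obtain ⟨W, -, hW⟩ := p₀.isPrime.prod_mem_iff.1 hh
    exact hr W hW
  · obtain ⟨W, hW, hxW⟩ := hcov x (Y.basicOpen_le _ hx)
    obtain ⟨q, rfl⟩ := (hs W hW).1.range_fromSpec.ge hxW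
    rw [apply_fromSpec f hU (hs W hW).1 (hs W hW).2, mem_basicOpen_iff] at hx
    exact H ⟨W, hW⟩ q fun hh => hx (Ideal.prod_mem _ (Finset.mem_univ (⟨W, hW⟩ : s)) hh)

theorem finiteType_appLE {U : Y.Opens} (hU : IsAffineOpen U) {W : X.Opens} (hW : IsAffineOpen W) (e : W ≤ f ⁻¹ᵁ U) :
    (f.appLE U W e).hom.FiniteType :=
  HasRingHomProperty.appLE (@LocallyOfFiniteType) f inferInstance ⟨U, hU⟩ ⟨W, hW⟩ e

/-- A closed set containing the generic fibre contains the nearby fibres. -/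
theorem exists_subset [QuasiCompact f] (Z : Set X) (hZ : IsClosed Z) (h : f ⁻¹' {genericPoint Y} ⊆ Z) :
    ∃ V : Y.Opens, genericPoint Y ∈ V ∧ ∀ x : X, f x ∈ V → x ∈ Z := by
  refine exists_nbhd f _ fun U hU W hW e p₀ hp₀ hmin => ?_
  algebraize [(f.appLE U W e).hom]
  haveI : Algebra.FiniteType Γ(Y, U) Γ(X, W) := finiteType_appLE f hU hW e
  obtain ⟨I, hI⟩ := (PrimeSpectrum.isClosed_iff_zeroLocus_ideal _).1 (hZ.preimage hW.fromSpec.continuous)
  obtain ⟨r, hr, H⟩ := exists_le p₀.asIdeal hmin I fun q hq hq0 => by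
    have h1 : (⟨q, hq⟩ : PrimeSpectrum Γ(X, W)) ∈ hW.fromSpec ⁻¹' Z := h (by
      show f _ = _
      rw [apply_fromSpec f hU hW e, ← hp₀]
      congr 1
      exact PrimeSpectrum.ext hq0)
    rw [hI] at h1
    exact h1
  exact ⟨r, hr, fun q hq => hI.ge (H q.asIdeal q.isPrime hq)⟩

/-- A closed set missing the generic fibre misses the nearby fibres. -/
theorem exists_disjoint [QuasiCompact f] (Z : Set X) (hZ : IsClosed Z) (h : ∀ x, f x = genericPoint Y → x ∉ Z) :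
    ∃ V : Y.Opens, genericPoint Y ∈ V ∧ ∀ x : X, f x ∈ V → x ∉ Z := by
  refine exists_nbhd f _ fun U hU W hW e p₀ hp₀ hmin => ?_
  algebraize [(f.appLE U W e).hom]
  haveI : Algebra.FiniteType Γ(Y, U) Γ(X, W) := finiteType_appLE f hU hW e
  obtain ⟨I, hI⟩ := (PrimeSpectrum.isClosed_iff_zeroLocus_ideal _).1 (hZ.preimage hW.fromSpec.continuous)
  obtain ⟨r, hr, H⟩ := exists_not_le p₀.asIdeal hmin I fun q hq hq0 hle =>
    h (hW.fromSpec ⟨q, hq⟩) (by
      rw [apply_fromSpec f hU hW e, ← hp₀]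
      congr 1
      exact PrimeSpectrum.ext hq0) (hI.ge hle)
  exact ⟨r, hr, fun q hq hqZ => H q.asIdeal q.isPrime hq (hI.le hqZ)⟩

/-- An open meeting the generic fibre meets the nearby fibres. -/
theorem exists_nonempty (O : Set X) (hO : IsOpen O) (x : X) (hx : f x = genericPoint Y) (hxO : x ∈ O) :
    ∃ V : Y.Opens, genericPoint Y ∈ V ∧ ∀ y ∈ V, ∃ x' ∈ O, f x' = y := by
  obtain ⟨U, hU, hη, -⟩ := exists_isAffineOpen_mem_and_subset (X := Y) (x := genericPoint Y) (U := ⊤) trivial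
  obtain ⟨p₀, hp₀, hmin⟩ := exists_generic_prime hU hη
  obtain ⟨W, hW, hxW, e⟩ := exists_isAffineOpen_mem_and_subset (X := X) (x := x) (U := f ⁻¹ᵁ U)
    (show f x ∈ U from hx ▸ hη)
  algebraize [(f.appLE U W e).hom]
  haveI : Algebra.FiniteType Γ(Y, U) Γ(X, W) := finiteType_appLE f hU hW e
  obtain ⟨q₀, hq₀⟩ := hW.range_fromSpec.ge hxW
  obtain ⟨_, ⟨b, rfl⟩, hb, hbO⟩ := PrimeSpectrum.isTopologicalBasis_basic_opens.exists_subset_of_mem_open
    (show q₀ ∈ hW.fromSpec ⁻¹' O by rw [Set.mem_preimage, hq₀]; exact hxO) (hO.preimage hW.fromSpec.continuous)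
  have hq₀p : q₀.asIdeal.under Γ(Y, U) = p₀.asIdeal := by
    have h1 := apply_fromSpec f hU hW e q₀
    rw [hq₀, hx, ← hp₀] at h1
    exact congrArg PrimeSpectrum.asIdeal (hU.fromSpec.isOpenEmbedding.injective h1).symm
  obtain ⟨r, hr, H⟩ := exists_notMem p₀.asIdeal hmin b q₀.asIdeal hq₀p hb
  refine ⟨Y.basicOpen r, hp₀ ▸ (mem_basicOpen_iff hU p₀ r).2 hr, fun y hy => ?_⟩
  obtain ⟨p, rfl⟩ := hU.range_fromSpec.ge (Y.basicOpen_le _ hy)
  obtain ⟨q, hq, hqp, hbq⟩ := H p.asIdeal p.isPrime ((mem_basicOpen_iff hU p r).1 hy)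
  refine ⟨hW.fromSpec ⟨q, hq⟩, hbO (show (⟨q, hq⟩ : PrimeSpectrum Γ(X, W)) ∈ PrimeSpectrum.basicOpen b from hbq), ?_⟩
  rw [apply_fromSpec f hU hW e]
  congr 1
  exact PrimeSpectrum.ext hqp

/-- A closed set containing no generic point of a component of the generic fibre contains none of the
nearby fibres. -/
theorem exists_no_minimal [QuasiCompact f] (Z : Set X) (hZ : IsClosed Z)
    (h : ∀ x ∈ Z, f x = genericPoint Y → ∃ x', x' ⤳ x ∧ f x' = f x ∧ x' ≠ x) :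
    ∃ V : Y.Opens, genericPoint Y ∈ V ∧ ∀ x : X, f x ∈ V → x ∈ Z → ∃ x', x' ⤳ x ∧ f x' = f x ∧ x' ≠ x := by
  refine exists_nbhd f _ fun U hU W hW e p₀ hp₀ hmin => ?_
  algebraize [(f.appLE U W e).hom]
  haveI : Algebra.FiniteType Γ(Y, U) Γ(X, W) := finiteType_appLE f hU hW e
  obtain ⟨I, hI⟩ := (PrimeSpectrum.isClosed_iff_zeroLocus_ideal _).1 (hZ.preimage hW.fromSpec.continuous)
  have key : ∀ q : PrimeSpectrum Γ(X, W), (∃ x', x' ⤳ hW.fromSpec q ∧ f x' = f (hW.fromSpec q) ∧ x' ≠ hW.fromSpec q) ↔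
      ∃ q' : Ideal Γ(X, W), q'.IsPrime ∧ q'.under Γ(Y, U) = q.asIdeal.under Γ(Y, U) ∧ q' ≤ q.asIdeal ∧ q' ≠ q.asIdeal := by
    intro q
    constructor
    · rintro ⟨x', hx', hfx, hne⟩
      have hx'W : x' ∈ W := hx'.mem_open W.2 (hW.range_fromSpec.le ⟨q, rfl⟩)
      obtain ⟨q', rfl⟩ := hW.range_fromSpec.ge hx'W
      rw [apply_fromSpec f hU hW e, apply_fromSpec f hU hW e] at hfx
      exact ⟨q'.asIdeal, q'.isPrime, congrArg PrimeSpectrum.asIdeal (hU.fromSpec.isOpenEmbedding.injective hfx),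
        (PrimeSpectrum.le_iff_specializes q' q).2 (hW.fromSpec.isOpenEmbedding.toIsInducing.specializes_iff.1 hx'),
        fun h => hne (congrArg _ (PrimeSpectrum.ext h))⟩
    · rintro ⟨q', hq', hu, hle, hne⟩
      refine ⟨hW.fromSpec ⟨q', hq'⟩, ?_, ?_, fun h => hne (congrArg PrimeSpectrum.asIdeal (hW.fromSpec.isOpenEmbedding.injective h))⟩
      · exact ((PrimeSpectrum.le_iff_specializes ⟨q', hq'⟩ q).1 hle).map hW.fromSpec.continuous
      · rw [apply_fromSpec f hU hW e, apply_fromSpec f hU hW e]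
        congr 1
        exact PrimeSpectrum.ext hu
  obtain ⟨r, hr, H⟩ := exists_not_le_min p₀.asIdeal hmin I fun q hq hq0 hqmin hle => by
    obtain ⟨q', hq', hu, hle', hne⟩ := (key ⟨q, hq⟩).1 (h _ (hI.ge hle) (by
      rw [apply_fromSpec f hU hW e, ← hp₀]
      congr 1
      exact PrimeSpectrum.ext hq0))
    exact hne (hqmin q' hq' (hu.trans hq0) hle')
  refine ⟨r, hr, fun q hq hqZ => (key q).2 ?_⟩
  by_contra hno
  exact H q.asIdeal q.isPrime hq (fun q' hq' hu hle => by_contra fun hne => hno ⟨q', hq', hu, hle, hne⟩) (hI.le hqZ)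

end Scheme

end Groth.Agent.NearGen
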