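import Mathlib
import Groth.Agent.NearGen.Top
import Groth.Agent.GrSegreLib.Dim
import Groth.Agent.DimFormulaLib.Scheme

/-!
# The dimension of the fibres near the generic fibre
-/

set_option autoImplicit false
set_option linter.style.haveILetI false

universe u

open TensorProduct

namespace Groth.Agent.NearGen

section Ring

variable {R B : Type u} [CommRing R] [IsDomain R] [CommRing B] [Algebra R B]

/-- A finite injection from a polynomial ring stays injective on nearby fibres. -/
theorem exists_injective_baseChange {d : ℕ} (φ : MvPolynomial (Fin d) R →ₐ[R] B) (hinj : Function.Injective φ)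
    (hfin : φ.Finite) :
    ∃ r : R, r ≠ 0 ∧ ∀ (κ : Type u) [Field κ] [Algebra R κ], algebraMap R κ r ≠ 0 →
      Function.Injective (φ.toLinearMap.baseChange κ) := by
  letI : Algebra (MvPolynomial (Fin d) R) B := φ.toRingHom.toAlgebra
  haveI : IsScalarTower R (MvPolynomial (Fin d) R) B := .of_algebraMap_eq fun a => (φ.commutes a).symm
  haveI : Module.Finite (MvPolynomial (Fin d) R) B := hfin
  let M := B ⧸ LinearMap.range (Algebra.linearMap (MvPolynomial (Fin d) R) B)
  obtain ⟨r, -, hr, hfree, -⟩ := GenFree.exists_generic (R := R) (S := MvPolynomial (Fin d) R) (M := M) (g := (1 : R)) one_ne_zero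
  refine ⟨r, hr, fun κ _ _ hκ => ?_⟩
  let A := Localization.Away r
  haveI : Module.Flat R A := IsLocalization.flat _ (Submonoid.powers r)
  haveI : Module.Free A (A ⊗[R] M) := hfree
  let μ : MvPolynomial (Fin d) R →ₗ[R] B := φ.toLinearMap
  let π : B →ₗ[R] M := (LinearMap.range (Algebra.linearMap (MvPolynomial (Fin d) R) B)).mkQ.restrictScalars R
  have hπ : Function.Surjective π := Submodule.mkQ_surjective _
  have hex : Function.Exact μ π := fun x => Submodule.Quotient.mk_eq_zero _
  have hμA : Function.Injective (μ.baseChange A) := Module.Flat.lTensor_preserves_injective_linearMap μ hinj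
  have hexA : Function.Exact (μ.baseChange A) (π.baseChange A) := lTensor_exact A hex hπ
  have hπA : Function.Surjective (π.baseChange A) := LinearMap.lTensor_surjective A hπ
  obtain ⟨s, hs⟩ := Module.projective_lifting_property (π.baseChange A) LinearMap.id hπA
  obtain ⟨l, hl⟩ := (hexA.split_tfae hμA hπA |>.out 0 1 rfl rfl).1 ⟨s, hs⟩
  letI : Algebra A κ := (IsLocalization.Away.lift r (Ne.isUnit hκ)).toAlgebra
  haveI : IsScalarTower R A κ := .of_algebraMap_eq fun a => (IsLocalization.Away.lift_eq r (Ne.isUnit hκ) a).symm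
  let e := TensorProduct.AlgebraTensorModule.cancelBaseChange R A κ κ (MvPolynomial (Fin d) R)
  let e' := TensorProduct.AlgebraTensorModule.cancelBaseChange R A κ κ B
  have h1 : ∀ z, e' ((μ.baseChange A).baseChange κ z) = μ.baseChange κ (e z) := fun z => by
    induction z using TensorProduct.induction_on with
    | zero => simp
    | add x y hx hy => simp [hx, hy]
    | tmul c w =>
      induction w using TensorProduct.induction_on with
      | zero => simp
      | add x y hx hy => simp only [TensorProduct.tmul_add, map_add, hx, hy]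
      | tmul a x => simp [e, e']
  refine (injective_iff_map_eq_zero (μ.baseChange κ)).2 fun x hx => ?_
  obtain ⟨z, rfl⟩ := e.surjective x
  rw [← h1] at hx
  have h2 : (μ.baseChange A).baseChange κ z = 0 := e'.injective (hx.trans (map_zero e').symm)
  have h3 := congrArg (l.baseChange κ) h2
  rw [map_zero, ← LinearMap.comp_apply, ← LinearMap.baseChange_comp, hl, LinearMap.baseChange_id,
    LinearMap.id_apply] at h3
  rw [h3, map_zero]

theorem exists_ringKrullDim_of_finite {d : ℕ} (φ : MvPolynomial (Fin d) R →ₐ[R] B) (hinj : Function.Injective φ)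
    (hfin : φ.Finite) :
    ∃ r : R, r ≠ 0 ∧ ∀ (κ : Type u) [Field κ] [Algebra R κ], algebraMap R κ r ≠ 0 →
      ringKrullDim (κ ⊗[R] B) = d := by
  obtain ⟨r, hr, H⟩ := exists_injective_baseChange φ hinj hfin
  refine ⟨r, hr, fun κ _ _ hκ => ?_⟩
  let Φ : κ ⊗[R] MvPolynomial (Fin d) R →ₐ[κ] κ ⊗[R] B := Algebra.TensorProduct.map (AlgHom.id κ κ) φ
  have hΦinj : Function.Injective Φ := H κ hκ
  have hΦfin : Φ.Finite := by
    letI : Algebra (MvPolynomial (Fin d) R) B := φ.toRingHom.toAlgebra
    haveI : IsScalarTower R (MvPolynomial (Fin d) R) B := .of_algebraMap_eq fun a => (φ.commutes a).symm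
    haveI : Module.Finite (MvPolynomial (Fin d) R) B := hfin
    obtain ⟨s, hs⟩ := (Module.Finite.fg_top : (⊤ : Submodule (MvPolynomial (Fin d) R) B).FG)
    letI : Algebra (κ ⊗[R] MvPolynomial (Fin d) R) (κ ⊗[R] B) := Φ.toRingHom.toAlgebra
    classical
    refine ⟨⟨s.image fun b => (1 : κ) ⊗ₜ[R] b, eq_top_iff.2 fun z _ => ?_⟩⟩
    induction z using TensorProduct.induction_on with
    | zero => exact Submodule.zero_mem _
    | add a b ha hb => exact Submodule.add_mem _ (ha trivial) (hb trivial)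
    | tmul c b =>
      have hb : b ∈ Submodule.span (MvPolynomial (Fin d) R) (s : Set B) := hs ▸ Submodule.mem_top
      induction hb using Submodule.span_induction generalizing c with
      | mem x hx =>
        have : c ⊗ₜ[R] x = (c ⊗ₜ[R] (1 : MvPolynomial (Fin d) R)) • ((1 : κ) ⊗ₜ[R] x) := by
          show _ = Φ (c ⊗ₜ[R] 1) * ((1 : κ) ⊗ₜ[R] x)
          simp [Φ]
        rw [this]
        exact Submodule.smul_mem _ _ (Submodule.subset_span (Finset.mem_image_of_mem _ hx))
      | zero => rw [TensorProduct.tmul_zero]; exact Submodule.zero_mem _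
      | add x y _ _ hx hy => rw [TensorProduct.tmul_add]; exact Submodule.add_mem _ (hx c trivial) (hy c trivial)
      | smul a x _ hx =>
        have : c ⊗ₜ[R] (a • x) = ((1 : κ) ⊗ₜ[R] a) • (c ⊗ₜ[R] x) := by
          show _ = Φ ((1 : κ) ⊗ₜ[R] a) * (c ⊗ₜ[R] x)
          simp [Φ]
          rfl
        rw [this]
        exact Submodule.smul_mem _ _ (hx c trivial)
  letI : Algebra (κ ⊗[R] MvPolynomial (Fin d) R) (κ ⊗[R] B) := Φ.toRingHom.toAlgebra
  haveI : Module.Finite (κ ⊗[R] MvPolynomial (Fin d) R) (κ ⊗[R] B) := hΦfin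
  rw [← GrSegreLib.ringKrullDim_eq_of_integral_injective Φ.toRingHom hΦinj (RingHom.IsIntegral.of_finite hΦfin),
    ringKrullDim_eq_of_ringEquiv (MvPolynomial.algebraTensorAlgEquiv R κ).toRingEquiv,
    MvPolynomial.ringKrullDim_of_isNoetherianRing, ringKrullDim_eq_zero_of_field, zero_add]
  simp

/-- The dimension of the fibres of a finite type algebra over a domain is constant near the generic point. -/
theorem exists_ringKrullDim_eq [Algebra.FiniteType R B] :
    ∃ (r : R) (n : WithBot ℕ∞), r ≠ 0 ∧ ∀ (κ : Type u) [Field κ] [Algebra R κ], algebraMap R κ r ≠ 0 →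
      ringKrullDim (κ ⊗[R] B) = n := by
  classical
  let K := FractionRing R
  let BK := K ⊗[R] B
  haveI : Module.Flat R K := IsLocalization.flat K (nonZeroDivisors R)
  let j : B →ₐ[R] BK := Algebra.TensorProduct.includeRight
  have hker : ∀ x : B, j x = 0 → ∃ a : R, a ≠ 0 ∧ a • x = 0 := fun x hx => by
    obtain ⟨⟨a, ha⟩, hax⟩ := (IsLocalizedModule.eq_zero_iff (nonZeroDivisors R)
      (TensorProduct.mk R K B 1) (m := x)).1 (by exact hx)
    exact ⟨a, nonZeroDivisors.ne_zero ha, hax⟩
  rcases subsingleton_or_nontrivial BK with hsub | hnt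
  · obtain ⟨a, ha, ha1⟩ := hker 1 (Subsingleton.elim _ _)
    refine ⟨a, ⊥, ha, fun κ _ _ hκ => ?_⟩
    haveI : Subsingleton (κ ⊗[R] B) := by
      refine subsingleton_of_zero_eq_one ?_
      have h1 : algebraMap R κ a • ((1 : κ) ⊗ₜ[R] (1 : B)) = 0 := by
        rw [TensorProduct.smul_tmul', smul_eq_mul, mul_one, Algebra.algebraMap_eq_smul_one,
          TensorProduct.smul_tmul, ha1, TensorProduct.tmul_zero]
      exact ((smul_eq_zero.1 h1).resolve_left hκ).symm
    exact ringKrullDim_eq_bot_of_subsingleton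
  haveI : Algebra.FiniteType K BK := inferInstance
  obtain ⟨d, g, hg, hgfin⟩ := exists_finite_inj_algHom_of_fg K BK
  choose x hx using fun i =>
    IsLocalizedModule.surj (nonZeroDivisors R) (TensorProduct.mk R K B 1) (g (MvPolynomial.X i))
  let b : Fin d → B := fun i => (x i).1
  have hsmul : ∀ i, algebraMap R K ((x i).2 : R) • g (MvPolynomial.X i) = j (b i) := fun i => by
    rw [algebraMap_smul]
    exact hx i
  -- rescale the coordinates of the normalisation
  obtain ⟨u, hu⟩ : ∃ u : Fin d → K, u = fun i => algebraMap R K ((x i).2 : R) := ⟨_, rfl⟩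
  let σ : MvPolynomial (Fin d) K →ₐ[K] MvPolynomial (Fin d) K :=
    MvPolynomial.aeval fun i => u i • MvPolynomial.X i
  let τ : MvPolynomial (Fin d) K →ₐ[K] MvPolynomial (Fin d) K :=
    MvPolynomial.aeval fun i => (u i)⁻¹ • MvPolynomial.X i
  have hne : ∀ i, u i ≠ 0 := fun i => by
    rw [hu]
    exact (map_ne_zero_iff _ (IsFractionRing.injective R K)).2 (nonZeroDivisors.ne_zero (x i).2.2)
  have hsmul' : ∀ i, u i • g (MvPolynomial.X i) = j (b i) := fun i => by rw [hu]; exact hsmul i
  have hστ : σ.comp τ = AlgHom.id K _ := MvPolynomial.algHom_ext fun i => by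
    simp [σ, τ, smul_smul, inv_mul_cancel₀ (hne i)]
  have hτσ : τ.comp σ = AlgHom.id K _ := MvPolynomial.algHom_ext fun i => by
    simp [σ, τ, smul_smul, mul_inv_cancel₀ (hne i)]
  let g' : MvPolynomial (Fin d) K →ₐ[K] BK := g.comp (AlgEquiv.ofAlgHom σ τ hστ hτσ).toAlgHom
  have hg' : Function.Injective g' := hg.comp (AlgEquiv.ofAlgHom σ τ hστ hτσ).injective
  have hg'fin : g'.Finite :=
    hgfin.comp (AlgHom.Finite.of_surjective _ (AlgEquiv.ofAlgHom σ τ hστ hτσ).surjective)
  let φ : MvPolynomial (Fin d) R →ₐ[R] B := MvPolynomial.aeval b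
  have hcomp : ∀ q, j (φ q) = g' (MvPolynomial.map (algebraMap R K) q) := fun q => by
    induction q using MvPolynomial.induction_on with
    | C c =>
      rw [MvPolynomial.map_C, show MvPolynomial.C (σ := Fin d) (algebraMap R K c) = algebraMap K _ (algebraMap R K c) from rfl,
        AlgHom.commutes, show (MvPolynomial.C c : MvPolynomial (Fin d) R) = algebraMap R _ c from rfl,
        AlgHom.commutes, AlgHom.commutes, ← IsScalarTower.algebraMap_apply]
    | add p q hp hq => simp only [map_add, hp, hq]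
    | mul_X p i hp =>
      simp only [map_mul, MvPolynomial.map_X, hp]
      congr 1
      show j (φ (MvPolynomial.X i)) = g (σ (MvPolynomial.X i))
      simp [φ, σ, hsmul']
  have hφ : Function.Injective φ := (injective_iff_map_eq_zero φ).2 fun q hq => by
    have h1 := hcomp q
    rw [hq, map_zero] at h1
    exact MvPolynomial.map_injective _ (IsFractionRing.injective R K)
      ((hg' (h1.symm.trans (map_zero g').symm)).trans (map_zero _).symm)
  -- the generators are integral after inverting one element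
  obtain ⟨s, hs⟩ := (Algebra.FiniteType.out : (⊤ : Subalgebra R B).FG)
  have hint : ∀ z : B, ∃ m : R, m ≠ 0 ∧ φ.toRingHom.IsIntegralElem (m • z) := by
    intro z
    letI : Algebra (MvPolynomial (Fin d) K) BK := g'.toRingHom.toAlgebra
    letI : Algebra (MvPolynomial (Fin d) R) BK := (j.toRingHom.comp φ.toRingHom).toAlgebra
    letI : Algebra (MvPolynomial (Fin d) R) (MvPolynomial (Fin d) K) := (MvPolynomial.map (algebraMap R K)).toAlgebra
    haveI : IsScalarTower (MvPolynomial (Fin d) R) (MvPolynomial (Fin d) K) BK := .of_algebraMap_eq hcomp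
    haveI : IsLocalization ((nonZeroDivisors R).map (MvPolynomial.C (σ := Fin d))) (MvPolynomial (Fin d) K) :=
      MvPolynomial.isLocalization (σ := Fin d) (nonZeroDivisors R) K
    haveI : Module.Finite (MvPolynomial (Fin d) K) BK := hg'fin
    obtain ⟨⟨_, m, hm, rfl⟩, q, hq, hqz⟩ := IsIntegral.exists_multiple_integral_of_isLocalization
      ((nonZeroDivisors R).map (MvPolynomial.C (σ := Fin d))) (Rₘ := MvPolynomial (Fin d) K) (j z)
      (IsIntegral.of_finite _ _)
    have h0 : j (Polynomial.eval₂ φ.toRingHom (m • z) q) = 0 := by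
      rw [show j (Polynomial.eval₂ φ.toRingHom (m • z) q) =
        Polynomial.eval₂ (j.toRingHom.comp φ.toRingHom) (j (m • z)) q from Polynomial.hom_eval₂ q φ.toRingHom j.toRingHom (m • z)]
      refine Eq.trans ?_ hqz
      congr 1
      show j (m • z) = (j.toRingHom.comp φ.toRingHom) (MvPolynomial.C m) * j z
      show j (m • z) = j (φ (MvPolynomial.C m)) * j z
      rw [← map_mul, show φ (MvPolynomial.C m) = algebraMap R B m by simp [φ], ← Algebra.smul_def]
    obtain ⟨a, ha, ha0⟩ := hker _ h0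
    refine ⟨a * m, mul_ne_zero ha (nonZeroDivisors.ne_zero hm), q.scaleRoots (MvPolynomial.C a),
      (Polynomial.monic_scaleRoots_iff _).2 hq, ?_⟩
    have h1 : (a * m) • z = φ.toRingHom (MvPolynomial.C a) * (m • z) := by
      rw [mul_smul, Algebra.smul_def a (m • z)]
      simp [φ]
    rw [h1, Polynomial.scaleRoots_eval₂_mul]
    rcases Nat.eq_zero_or_pos q.natDegree with h2 | h2
    · rw [hq.natDegree_eq_zero.1 h2] at h0 ⊢
      rw [Polynomial.eval₂_one, map_one] at h0
      exact absurd h0 one_ne_zero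
    · obtain ⟨e, he⟩ := Nat.exists_eq_succ_of_ne_zero h2.ne'
      rw [he, pow_succ, mul_assoc, show φ.toRingHom (MvPolynomial.C a) = algebraMap R B a by simp [φ],
        ← Algebra.smul_def a, ha0, mul_zero]
  choose m hm0 hm using hint
  let c : R := ∏ z ∈ s, m z
  have hc : c ≠ 0 := Finset.prod_ne_zero_iff.2 fun z _ => hm0 z
  let R' := Localization.Away c
  haveI : IsDomain R' := IsLocalization.isDomain_localization (powers_le_nonZeroDivisors_of_noZeroDivisors hc)
  let φ' : MvPolynomial (Fin d) R' →ₐ[R'] R' ⊗[R] B := MvPolynomial.aeval fun i => (1 : R') ⊗ₜ[R] b i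
  have hφφ' : φ'.toRingHom.comp (MvPolynomial.map (algebraMap R R')) =
      (Algebra.TensorProduct.includeRight : B →ₐ[R] R' ⊗[R] B).toRingHom.comp φ.toRingHom :=
    MvPolynomial.ringHom_ext (fun r => by
      simp [φ', φ, -Algebra.TensorProduct.algebraMap_apply, ← IsScalarTower.algebraMap_apply]) (fun i => by simp [φ', φ])
  have hal : ∀ r : R', algebraMap R' (R' ⊗[R] B) r = r ⊗ₜ[R] (1 : B) := fun _ => rfl
  have hφ'fin : φ'.Finite := by
    have hft : φ'.toRingHom.FiniteType := by
      refine RingHom.FiniteType.of_comp_finiteType (f := algebraMap R' (MvPolynomial (Fin d) R')) ?_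
      rw [show φ'.toRingHom.comp (algebraMap R' (MvPolynomial (Fin d) R')) = algebraMap R' (R' ⊗[R] B) from φ'.comp_algebraMap]
      exact RingHom.finiteType_algebraMap.2 inferInstance
    refine RingHom.Finite.of_isIntegral_of_finiteType ?_ hft
    letI : Algebra (MvPolynomial (Fin d) R') (R' ⊗[R] B) := φ'.toRingHom.toAlgebra
    intro w
    show IsIntegral (MvPolynomial (Fin d) R') w
    induction w using TensorProduct.induction_on with
    | zero => exact isIntegral_zero
    | add u v hu hv => exact hu.add hv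
    | tmul r z =>
      have h1 : r ⊗ₜ[R] z = algebraMap (MvPolynomial (Fin d) R') (R' ⊗[R] B) (MvPolynomial.C r) * ((1 : R') ⊗ₜ[R] z) := by
        show _ = φ' (MvPolynomial.C r) * _
        simp [φ', hal]
      rw [h1]
      refine isIntegral_algebraMap.mul ?_
      clear h1
      have hz : z ∈ Algebra.adjoin R (s : Set B) := hs ▸ Algebra.mem_top
      induction hz using Algebra.adjoin_induction with
      | algebraMap r =>
        have : (1 : R') ⊗ₜ[R] algebraMap R B r = algebraMap (MvPolynomial (Fin d) R') (R' ⊗[R] B) (MvPolynomial.C (algebraMap R R' r)) := by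
          show _ = φ' (MvPolynomial.C _)
          rw [show φ' (MvPolynomial.C (algebraMap R R' r)) = algebraMap R' (R' ⊗[R] B) (algebraMap R R' r) by simp [φ'], hal,
            Algebra.algebraMap_eq_smul_one, Algebra.algebraMap_eq_smul_one, TensorProduct.smul_tmul]
        rw [this]; exact isIntegral_algebraMap
      | add u v _ _ hu hv => rw [TensorProduct.tmul_add]; exact hu.add hv
      | mul u v _ _ hu hv =>
        rw [show (1 : R') ⊗ₜ[R] (u * v) = ((1 : R') ⊗ₜ[R] u) * ((1 : R') ⊗ₜ[R] v) by simp]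
        exact hu.mul hv
      | mem z hz =>
        obtain ⟨q, hq, hq0⟩ := hm z
        have h2 : IsIntegral (MvPolynomial (Fin d) R') ((1 : R') ⊗ₜ[R] (m z • z)) := by
          refine ⟨q.map (MvPolynomial.map (algebraMap R R')), hq.map _, ?_⟩
          show Polynomial.eval₂ φ'.toRingHom _ _ = 0
          rw [Polynomial.eval₂_map, hφφ']
          show Polynomial.eval₂ ((Algebra.TensorProduct.includeRight : B →ₐ[R] R' ⊗[R] B).toRingHom.comp φ.toRingHom)
            ((Algebra.TensorProduct.includeRight : B →ₐ[R] R' ⊗[R] B).toRingHom (m z • z)) q = 0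
          rw [← Polynomial.hom_eval₂, hq0, map_zero]
        have hu : IsUnit (algebraMap R R' (m z)) :=
          isUnit_of_dvd_unit (map_dvd _ (Finset.dvd_prod_of_mem m hz)) (IsLocalization.Away.algebraMap_isUnit c)
        have h3 : (1 : R') ⊗ₜ[R] z = algebraMap (MvPolynomial (Fin d) R') (R' ⊗[R] B) (MvPolynomial.C ↑hu.unit⁻¹) *
            ((1 : R') ⊗ₜ[R] (m z • z)) := by
          show _ = φ' (MvPolynomial.C _) * _
          rw [show φ' (MvPolynomial.C (↑hu.unit⁻¹ : R')) = (↑hu.unit⁻¹ : R') ⊗ₜ[R] (1 : B) by simp [φ', hal],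
            Algebra.TensorProduct.tmul_mul_tmul, mul_one, one_mul, ← TensorProduct.smul_tmul,
            Algebra.smul_def, IsUnit.mul_val_inv]
        rw [h3]
        exact isIntegral_algebraMap.mul h2
  have hφ' : Function.Injective φ' := by
    refine (injective_iff_map_eq_zero φ').2 fun q hq => ?_
    letI : Algebra (MvPolynomial (Fin d) R) (MvPolynomial (Fin d) R') := (MvPolynomial.map (algebraMap R R')).toAlgebra
    haveI : IsLocalization ((Submonoid.powers c).map (MvPolynomial.C (σ := Fin d))) (MvPolynomial (Fin d) R') :=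
      MvPolynomial.isLocalization (σ := Fin d) (Submonoid.powers c) R'
    obtain ⟨p, t, rfl⟩ := IsLocalization.exists_mk'_eq ((Submonoid.powers c).map (MvPolynomial.C (σ := Fin d))) q
    rw [IsLocalization.mk'_eq_zero_iff]
    have h1 : φ' (MvPolynomial.map (algebraMap R R') p) = 0 := by
      rw [← show algebraMap _ _ p = MvPolynomial.map (algebraMap R R') p from rfl,
        ← IsLocalization.mk'_spec (MvPolynomial (Fin d) R') p t, map_mul, hq, zero_mul]
    have h2 : (1 : R') ⊗ₜ[R] φ p = 0 := (RingHom.congr_fun hφφ' p).symm.trans h1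
    obtain ⟨⟨_, k, rfl⟩, hk⟩ := (IsLocalizedModule.eq_zero_iff (Submonoid.powers c)
      (TensorProduct.mk R R' B 1) (m := φ p)).1 h2
    refine ⟨⟨MvPolynomial.C (c ^ k), c ^ k, ⟨k, rfl⟩, rfl⟩, hφ ?_⟩
    rw [map_mul, map_zero, show φ (MvPolynomial.C (c ^ k)) = algebraMap R B (c ^ k) by simp [φ], ← Algebra.smul_def]
    exact hk
  obtain ⟨r, hr, H⟩ := exists_ringKrullDim_of_finite φ' hφ' hφ'fin
  obtain ⟨r₀, t, hrt⟩ := IsLocalization.exists_mk'_eq (Submonoid.powers c) r
  refine ⟨r₀ * c, d, mul_ne_zero (fun h => hr (by rw [← hrt, h, IsLocalization.mk'_zero])) hc, fun κ _ _ hκ => ?_⟩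
  rw [map_mul] at hκ
  have hu : IsUnit (algebraMap R κ c) := Ne.isUnit (right_ne_zero_of_mul hκ)
  letI : Algebra R' κ := (IsLocalization.Away.lift c hu).toAlgebra
  haveI : IsScalarTower R R' κ := .of_algebraMap_eq fun a => (IsLocalization.Away.lift_eq c hu a).symm
  rw [← H κ ?_]
  · exact ringKrullDim_eq_of_ringEquiv (Algebra.TensorProduct.cancelBaseChange R R' κ κ B).symm.toRingEquiv
  intro h
  refine left_ne_zero_of_mul hκ ?_
  rw [IsScalarTower.algebraMap_apply R R' κ, ← IsLocalization.mk'_spec R' r₀ t, map_mul, hrt, h, zero_mul]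

end Ring

section Scheme

open CategoryTheory AlgebraicGeometry TopologicalSpace

theorem topologicalKrullDim_eq_iSup_of_cover {T : Type u} [TopologicalSpace T] {ι : Type*} (O : ι → Set T)
    (hO : ∀ i, IsOpen (O i)) (hcov : ∀ x, ∃ i, x ∈ O i) :
    topologicalKrullDim T = ⨆ i, topologicalKrullDim (O i) := by
  refine le_antisymm ?_ (iSup_le fun i => topologicalKrullDim_subspace_le T _)
  rw [DimFormulaLib.topologicalKrullDim_eq_iSup_localDim]
  refine iSup_le fun x => ?_
  obtain ⟨i, hi⟩ := hcov x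
  exact iInf_le_of_le ⟨⟨O i, hO i⟩, hi⟩ (le_iSup (fun i => topologicalKrullDim (O i)) i)

variable {X Y : Scheme.{u}} (f : X ⟶ Y) [IrreducibleSpace Y] [LocallyOfFiniteType f]

omit [IrreducibleSpace Y] [LocallyOfFiniteType f] in
/-- The dimension of the part of a fibre in an affine chart. -/
theorem topologicalKrullDim_fibre_chart {U : Y.Opens} (hU : IsAffineOpen U) {W : X.Opens} (hW : IsAffineOpen W)
    (e : W ≤ f ⁻¹ᵁ U) (p : PrimeSpectrum Γ(Y, U)) :
    letI := (f.appLE U W e).hom.toAlgebra
    topologicalKrullDim ((W : Set X) ∩ f ⁻¹' {hU.fromSpec p} : Set X) =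
      ringKrullDim (p.asIdeal.ResidueField ⊗[Γ(Y, U)] Γ(X, W)) := by
  letI := (f.appLE U W e).hom.toAlgebra
  let S := PrimeSpectrum.comap (algebraMap Γ(Y, U) Γ(X, W)) ⁻¹' {p}
  have hemb : Topology.IsEmbedding (fun q : S => hW.fromSpec q.1) :=
    hW.fromSpec.isOpenEmbedding.isEmbedding.comp Topology.IsEmbedding.subtypeVal
  have hr : Set.range (fun q : S => hW.fromSpec q.1) = (W : Set X) ∩ f ⁻¹' {hU.fromSpec p} := by
    ext x
    constructor
    · rintro ⟨⟨q, hq⟩, rfl⟩
      refine ⟨hW.range_fromSpec.le ⟨q, rfl⟩, ?_⟩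
      show f _ = _
      rw [apply_fromSpec f hU hW e]
      exact congrArg hU.fromSpec hq
    · rintro ⟨hxW, hx⟩
      obtain ⟨q, rfl⟩ := hW.range_fromSpec.ge hxW
      refine ⟨⟨q, hU.fromSpec.isOpenEmbedding.injective ?_⟩, rfl⟩
      rw [show hU.fromSpec (PrimeSpectrum.comap (algebraMap Γ(Y, U) Γ(X, W)) q) = f (hW.fromSpec q) from
        (apply_fromSpec f hU hW e q).symm]
      exact hx
  rw [← hr, ← (hemb.toHomeomorph).isHomeomorph.topologicalKrullDim_eq,
    (PrimeSpectrum.preimageHomeomorphFiber Γ(Y, U) Γ(X, W) p).isHomeomorph.topologicalKrullDim_eq]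
  exact PrimeSpectrum.topologicalKrullDim_eq_ringKrullDim _

/-- The dimension of the fibres is constant near the generic point. -/
theorem exists_topologicalKrullDim_eq [QuasiCompact f] :
    ∃ V : Y.Opens, genericPoint Y ∈ V ∧ ∀ y ∈ V,
      topologicalKrullDim (f.fiber y) = topologicalKrullDim (f.fiber (genericPoint Y)) := by
  classical
  obtain ⟨U, hU, hη, -⟩ := exists_isAffineOpen_mem_and_subset (X := Y) (x := genericPoint Y) (U := ⊤) trivial
  obtain ⟨p₀, hp₀, hmin⟩ := exists_generic_prime hU hη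
  obtain ⟨s, hs, hcov⟩ := exists_affines f hU
  have key : ∀ W : s, ∃ (r : Γ(Y, U)) (n : WithBot ℕ∞), r ∉ p₀.asIdeal ∧ ∀ p : PrimeSpectrum Γ(Y, U), r ∉ p.asIdeal →
      topologicalKrullDim ((W.1 : Set X) ∩ f ⁻¹' {hU.fromSpec p} : Set X) = n := by
    intro W
    letI := (f.appLE U W.1 (hs W.1 W.2).2).hom.toAlgebra
    haveI : Algebra.FiniteType Γ(Y, U) Γ(X, W.1) := finiteType_appLE f hU (hs W.1 W.2).1 (hs W.1 W.2).2
    obtain ⟨r, n, hr, H⟩ := exists_ringKrullDim_eq (R := Γ(Y, U) ⧸ p₀.asIdeal)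
      (B := (Γ(Y, U) ⧸ p₀.asIdeal) ⊗[Γ(Y, U)] Γ(X, W.1))
    obtain ⟨r, rfl⟩ := Ideal.Quotient.mk_surjective r
    refine ⟨r, n, fun h => hr (Ideal.Quotient.eq_zero_iff_mem.2 h), fun p hp => ?_⟩
    rw [topologicalKrullDim_fibre_chart f hU (hs W.1 W.2).1 (hs W.1 W.2).2 p]
    letI : Algebra (Γ(Y, U) ⧸ p₀.asIdeal) p.asIdeal.ResidueField :=
      (Ideal.Quotient.lift p₀.asIdeal (algebraMap Γ(Y, U) p.asIdeal.ResidueField) fun a ha => by
        rw [Ideal.algebraMap_residueField_eq_zero]
        exact hmin p.asIdeal p.isPrime ha).toAlgebra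
    haveI : IsScalarTower Γ(Y, U) (Γ(Y, U) ⧸ p₀.asIdeal) p.asIdeal.ResidueField := .of_algebraMap_eq fun _ => rfl
    rw [← H p.asIdeal.ResidueField (by
      show algebraMap Γ(Y, U) p.asIdeal.ResidueField r ≠ 0
      rwa [Ne, Ideal.algebraMap_residueField_eq_zero])]
    exact ringKrullDim_eq_of_ringEquiv (Algebra.TensorProduct.cancelBaseChange Γ(Y, U) (Γ(Y, U) ⧸ p₀.asIdeal)
      p.asIdeal.ResidueField p.asIdeal.ResidueField Γ(X, W.1)).symm.toRingEquiv
  choose r n hr H using key
  have hconst : ∀ y ∈ Y.basicOpen (∏ W : s, r W), topologicalKrullDim (f.fiber y) = ⨆ W : s, n W := by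
    intro y hy
    obtain ⟨p, rfl⟩ := hU.range_fromSpec.ge (Y.basicOpen_le _ hy)
    rw [(f.fiberHomeo _).isHomeomorph.topologicalKrullDim_eq,
      topologicalKrullDim_eq_iSup_of_cover (fun W : s => Subtype.val ⁻¹' (W.1 : Set X))
        (fun W => W.1.2.preimage continuous_subtype_val) (fun x => by
          obtain ⟨W, hW, hxW⟩ := hcov x.1 (by
            rw [show f x.1 = hU.fromSpec p from x.2]; exact Y.basicOpen_le _ hy)
          exact ⟨⟨W, hW⟩, hxW⟩)]
    refine iSup_congr fun W => ?_
    rw [← H W p fun hh => (mem_basicOpen_iff hU p _).1 hy (Ideal.prod_mem _ (Finset.mem_univ W) hh)]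
    have hr' : Set.range (fun x : (Subtype.val ⁻¹' (W.1 : Set X) : Set ↥(f ⁻¹' {hU.fromSpec p})) => x.1.1) =
        (W.1 : Set X) ∩ f ⁻¹' {hU.fromSpec p} :=
      Set.ext fun x => ⟨by rintro ⟨z, rfl⟩; exact ⟨z.2, z.1.2⟩, fun hx => ⟨⟨⟨x, hx.2⟩, hx.1⟩, rfl⟩⟩
    rw [← hr']
    exact ((Topology.IsEmbedding.subtypeVal.comp Topology.IsEmbedding.subtypeVal).toHomeomorph).isHomeomorph.topologicalKrullDim_eq
  have hηmem : genericPoint Y ∈ Y.basicOpen (∏ W : s, r W) := hp₀ ▸ (mem_basicOpen_iff hU p₀ _).2 fun hh => by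
    obtain ⟨W, -, hW⟩ := p₀.isPrime.prod_mem_iff.1 hh
    exact hr W hW
  exact ⟨_, hηmem, fun y hy => (hconst y hy).trans (hconst _ hηmem).symm⟩

end Scheme

end Groth.Agent.NearGen
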