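import Mathlib
import Groth.Agent.NearGen.Top

/-!
# Affine charts of fibres
-/

set_option autoImplicit false
set_option linter.style.haveILetI false

universe u

open CategoryTheory CategoryTheory.Limits AlgebraicGeometry TensorProduct

namespace Groth.Agent.NearGen

variable {X Y : Scheme.{u}} (f : X ⟶ Y)

set_option backward.isDefEq.respectTransparency.types false in
/-- The residue field of a point of an affine open, as `Ideal.ResidueField`. -/
theorem exists_residueField_iso {U : Y.Opens} (hU : IsAffineOpen U) (p : PrimeSpectrum Γ(Y, U)) :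
    ∃ θ : Spec (CommRingCat.of p.asIdeal.ResidueField) ⟶ Spec (Y.residueField (hU.fromSpec p)),
      IsIso θ ∧ θ ≫ Y.fromSpecResidueField (hU.fromSpec p) =
        Spec.map (CommRingCat.ofHom (algebraMap Γ(Y, U) p.asIdeal.ResidueField)) ≫ hU.fromSpec := by
  refine ⟨Spec.map (Scheme.Spec.residueFieldIso Γ(Y, U) p).hom ≫ Spec.map (hU.fromSpec.residueFieldMap p), inferInstance, ?_⟩
  rw [Category.assoc, Scheme.Hom.SpecMap_residueFieldMap_fromSpecResidueField,
    ← Scheme.Spec.map_residueFieldIso_inv_eq_fromSpecResidueField]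
  simp only [Category.assoc]
  refine (Spec.map_comp_assoc _ _ _).symm.trans ?_
  rw [Iso.inv_hom_id, Spec.map_id]
  exact Category.id_comp _

/-- A chart of the fibre given by affine opens. -/
theorem exists_fibre_chart {U : Y.Opens} (hU : IsAffineOpen U) {W : X.Opens} (hW : IsAffineOpen W)
    (e : W ≤ f ⁻¹ᵁ U) (p : PrimeSpectrum Γ(Y, U)) :
    letI := (f.appLE U W e).hom.toAlgebra
    ∃ (j : Spec (CommRingCat.of (p.asIdeal.ResidueField ⊗[Γ(Y, U)] Γ(X, W))) ⟶ f.fiber (hU.fromSpec p))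
      (θ : Spec (CommRingCat.of p.asIdeal.ResidueField) ⟶ Spec (Y.residueField (hU.fromSpec p))),
      IsOpenImmersion j ∧ IsIso θ ∧ Set.range j = f.fiberι _ ⁻¹' (W : Set X) ∧
      j ≫ f.fiberι _ = Spec.map (CommRingCat.ofHom (Algebra.TensorProduct.includeRight :
        Γ(X, W) →ₐ[Γ(Y, U)] p.asIdeal.ResidueField ⊗[Γ(Y, U)] Γ(X, W)).toRingHom) ≫ hW.fromSpec ∧
      j ≫ f.fiberToSpecResidueField _ = Spec.map (CommRingCat.ofHom
        (algebraMap p.asIdeal.ResidueField (p.asIdeal.ResidueField ⊗[Γ(Y, U)] Γ(X, W)))) ≫ θ := by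
  letI := (f.appLE U W e).hom.toAlgebra
  obtain ⟨θ, hθ, hθc⟩ := exists_residueField_iso hU p
  let P := pullbackSpecIso Γ(Y, U) Γ(X, W) p.asIdeal.ResidueField
  let cm : Spec (CommRingCat.of (p.asIdeal.ResidueField ⊗[Γ(Y, U)] Γ(X, W))) ⟶
      Spec (CommRingCat.of (Γ(X, W) ⊗[Γ(Y, U)] p.asIdeal.ResidueField)) :=
    Spec.map (CommRingCat.ofHom (Algebra.TensorProduct.comm Γ(Y, U) Γ(X, W) p.asIdeal.ResidueField).toRingHom)
  haveI : IsIso cm := by
    haveI : IsIso (CommRingCat.ofHom (Algebra.TensorProduct.comm Γ(Y, U) Γ(X, W) p.asIdeal.ResidueField).toRingHom) :=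
      (Algebra.TensorProduct.comm Γ(Y, U) Γ(X, W) p.asIdeal.ResidueField).toRingEquiv.toCommRingCatIso.isIso_hom
    infer_instance
  have h1 : Spec.map (CommRingCat.ofHom (algebraMap Γ(Y, U) Γ(X, W))) ≫ hU.fromSpec = hW.fromSpec ≫ f :=
    IsAffineOpen.SpecMap_appLE_fromSpec f hU hW e
  let j : Spec (CommRingCat.of (p.asIdeal.ResidueField ⊗[Γ(Y, U)] Γ(X, W))) ⟶ f.fiber (hU.fromSpec p) :=
    cm ≫ P.inv ≫ pullback.map _ _ f (Y.fromSpecResidueField (hU.fromSpec p)) hW.fromSpec θ hU.fromSpec h1 hθc.symm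
  haveI : IsOpenImmersion (pullback.map _ _ f (Y.fromSpecResidueField (hU.fromSpec p)) hW.fromSpec θ hU.fromSpec h1 hθc.symm) :=
    inferInstance
  haveI hj : IsOpenImmersion j := inferInstanceAs (IsOpenImmersion (cm ≫ P.inv ≫ pullback.map _ _ _ _ _ _ _ _ _))
  have hι : j ≫ f.fiberι _ = Spec.map (CommRingCat.ofHom (Algebra.TensorProduct.includeRight :
      Γ(X, W) →ₐ[Γ(Y, U)] p.asIdeal.ResidueField ⊗[Γ(Y, U)] Γ(X, W)).toRingHom) ≫ hW.fromSpec := by
    show (cm ≫ P.inv ≫ pullback.map _ _ _ _ _ _ _ _ _) ≫ pullback.fst _ _ = _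
    rw [Category.assoc, Category.assoc, pullback.map, pullback.lift_fst, pullbackSpecIso_inv_fst_assoc,
      ← Spec.map_comp_assoc]
    congr 2
  have hπ : j ≫ f.fiberToSpecResidueField _ = Spec.map (CommRingCat.ofHom
      (algebraMap p.asIdeal.ResidueField (p.asIdeal.ResidueField ⊗[Γ(Y, U)] Γ(X, W)))) ≫ θ := by
    show (cm ≫ P.inv ≫ pullback.map _ _ _ _ _ _ _ _ _) ≫ pullback.snd _ _ = _
    rw [Category.assoc, Category.assoc, pullback.map, pullback.lift_snd, pullbackSpecIso_inv_snd_assoc,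
      ← Spec.map_comp_assoc]
    congr 2
  refine ⟨j, θ, inferInstance, hθ, ?_, hι, hπ⟩
  ext z
  constructor
  · rintro ⟨q, rfl⟩
    show f.fiberι _ (j q) ∈ W
    rw [← Scheme.Hom.comp_apply, hι, Scheme.Hom.comp_apply]
    exact hW.range_fromSpec.le ⟨_, rfl⟩
  · intro hz
    obtain ⟨q, hq⟩ := hW.range_fromSpec.ge (show f.fiberι _ z ∈ W from hz)
    have hqp : q ∈ PrimeSpectrum.comap (algebraMap Γ(Y, U) Γ(X, W)) ⁻¹' {p} := by
      refine hU.fromSpec.isOpenEmbedding.injective ?_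
      rw [show hU.fromSpec (PrimeSpectrum.comap (algebraMap Γ(Y, U) Γ(X, W)) q) = f (hW.fromSpec q) from
        (apply_fromSpec f hU hW e q).symm, hq]
      exact (f.fiberHomeo _ z).2
    let F := PrimeSpectrum.preimageHomeomorphFiber Γ(Y, U) Γ(X, W) p
    refine ⟨F ⟨q, hqp⟩, (f.fiberι _).isEmbedding.injective ?_⟩
    rw [← Scheme.Hom.comp_apply, hι, Scheme.Hom.comp_apply, ← hq]
    exact congrArg hW.fromSpec (congrArg Subtype.val (F.symm_apply_apply ⟨q, hqp⟩))

end Groth.Agent.NearGen
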