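import Mathlib
import Groth.Agent.NearGen.Chart

/-!
# Nilpotents and zero divisors in the fibres near the generic one
-/

set_option autoImplicit false
set_option linter.style.haveILetI false

universe u

open TensorProduct

namespace Groth.Agent.NearGen

section Ring

variable {R B : Type u} [CommRing R] [IsDomain R] [CommRing B] [Algebra R B]

omit [IsDomain R] in
theorem injective_of_isLocalization (M : Submonoid R) (A : Type u) [CommRing A] [Algebra R A] [IsLocalization M A]
    (K : Type u) [CommRing K] [Algebra R K] [Algebra A K] [IsScalarTower R A K]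
    (hK : Function.Injective (algebraMap R K)) : Function.Injective (algebraMap A K) := by
  refine (injective_iff_map_eq_zero (algebraMap A K)).2 fun a ha => ?_
  obtain ⟨c, t, rfl⟩ := IsLocalization.exists_mk'_eq M a
  have h : algebraMap R K c = 0 := by
    rw [IsScalarTower.algebraMap_apply R A K, ← IsLocalization.mk'_spec A c t, map_mul, ha, zero_mul]
  rw [(injective_iff_map_eq_zero (algebraMap R K)).1 hK c h, IsLocalization.mk'_zero]

/-- An element nonzero in the generic fibre is nonzero in the nearby fibres. -/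
theorem exists_tmul_ne_zero [Algebra.FiniteType R B] (K : Type u) [Field K] [Algebra R K] (x : B)
    (hx : (1 : K) ⊗ₜ[R] x ≠ 0) (hK : Function.Injective (algebraMap R K)) :
    ∃ r : R, r ≠ 0 ∧ ∀ (κ : Type u) [Field κ] [Algebra R κ], algebraMap R κ r ≠ 0 → (1 : κ) ⊗ₜ[R] x ≠ 0 := by
  obtain ⟨r, hr, hfree⟩ := exists_freeAt (R := R) (B := B)
  let A := Localization.Away r
  haveI : Module.Free A (A ⊗[R] B) := hfree
  let bas := Module.Free.chooseBasis A (A ⊗[R] B)
  letI algAK : Algebra A K := (IsLocalization.Away.lift r (Ne.isUnit ((map_ne_zero_iff _ hK).2 hr))).toAlgebra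
  haveI : IsScalarTower R A K := .of_algebraMap_eq fun a => (IsLocalization.Away.lift_eq r _ a).symm
  obtain ⟨i, hi⟩ : ∃ i, bas.repr ((1 : A) ⊗ₜ[R] x) i ≠ 0 := by
    by_contra h
    push Not at h
    have h0 : (1 : A) ⊗ₜ[R] x = 0 := bas.repr.injective (Finsupp.ext fun i => by rw [h i, map_zero]; rfl)
    refine hx ?_
    have h1 := congrArg (TensorProduct.AlgebraTensorModule.cancelBaseChange R A K K B) (congrArg ((1 : K) ⊗ₜ[A] ·) h0)
    simpa using h1
  obtain ⟨c, t, hc⟩ := IsLocalization.exists_mk'_eq (Submonoid.powers r) (bas.repr ((1 : A) ⊗ₜ[R] x) i)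
  refine ⟨r * c, mul_ne_zero hr (fun h => hi (by rw [← hc, h, IsLocalization.mk'_zero])), fun κ _ _ hκ h0 => ?_⟩
  rw [map_mul] at hκ
  letI : Algebra A κ := (IsLocalization.Away.lift r (Ne.isUnit (left_ne_zero_of_mul hκ))).toAlgebra
  haveI : IsScalarTower R A κ := .of_algebraMap_eq fun a => (IsLocalization.Away.lift_eq r _ a).symm
  have h1 : (1 : κ) ⊗ₜ[A] ((1 : A) ⊗ₜ[R] x) = 0 := (TensorProduct.AlgebraTensorModule.cancelBaseChange R A κ κ B).injective
    (by simpa using h0)
  have h2 := congrArg (fun z => (bas.baseChange κ).repr z i) h1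
  simp only [Module.Basis.baseChange_repr_tmul, map_zero, Finsupp.coe_zero, Pi.zero_apply] at h2
  rw [← hc, Algebra.smul_def, mul_one] at h2
  refine right_ne_zero_of_mul hκ ?_
  rw [IsScalarTower.algebraMap_apply R A κ, ← IsLocalization.mk'_spec A c t, map_mul, h2, zero_mul]

/-- Nonreduced generic fibre, nonreduced nearby fibres. -/
theorem exists_not_isReduced [Algebra.FiniteType R B] (K : Type u) [Field K] [Algebra R K] (x : B)
    (hx : (1 : K) ⊗ₜ[R] x ≠ 0) (hnil : IsNilpotent ((1 : K) ⊗ₜ[R] x)) (hK : Function.Injective (algebraMap R K)) :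
    ∃ r : R, r ≠ 0 ∧ ∀ (κ : Type u) [Field κ] [Algebra R κ], algebraMap R κ r ≠ 0 → ¬ IsReduced (κ ⊗[R] B) := by
  obtain ⟨n, hn⟩ := hnil
  rw [Algebra.TensorProduct.tmul_pow, one_pow] at hn
  obtain ⟨r₁, hr₁, H₁⟩ := exists_tmul_ne_zero K x hx hK
  obtain ⟨r, hr, hfree⟩ := exists_freeAt (R := R) (B := B)
  let A := Localization.Away r
  haveI : Module.Free A (A ⊗[R] B) := hfree
  letI algAK : Algebra A K := (IsLocalization.Away.lift r (Ne.isUnit ((map_ne_zero_iff _ hK).2 hr))).toAlgebra
  haveI : IsScalarTower R A K := .of_algebraMap_eq fun a => (IsLocalization.Away.lift_eq r _ a).symm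
  have hAK : Function.Injective (algebraMap A K) := injective_of_isLocalization (Submonoid.powers r) A K hK
  -- `B → K ⊗ B` is injective after inverting `r`
  have hA : (1 : A) ⊗ₜ[R] (x ^ n) = 0 := by
    let bas := Module.Free.chooseBasis A (A ⊗[R] B)
    refine bas.repr.injective (Finsupp.ext fun i => hAK ?_)
    have h1 : (1 : K) ⊗ₜ[A] ((1 : A) ⊗ₜ[R] (x ^ n)) = 0 :=
      (TensorProduct.AlgebraTensorModule.cancelBaseChange R A K K B).injective (by simpa using hn)
    have h2 := congrArg (fun z => (bas.baseChange K).repr z i) h1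
    simp only [Module.Basis.baseChange_repr_tmul, map_zero, Finsupp.coe_zero, Pi.zero_apply] at h2
    simp only [map_zero, Finsupp.coe_zero, Pi.zero_apply]
    rwa [Algebra.smul_def, mul_one] at h2
  refine ⟨r * r₁, mul_ne_zero hr hr₁, fun κ _ _ hκ hred => ?_⟩
  rw [map_mul] at hκ
  letI : Algebra A κ := (IsLocalization.Away.lift r (Ne.isUnit (left_ne_zero_of_mul hκ))).toAlgebra
  haveI : IsScalarTower R A κ := .of_algebraMap_eq fun a => (IsLocalization.Away.lift_eq r _ a).symm
  refine H₁ κ (right_ne_zero_of_mul hκ) (hred.eq_zero _ ⟨n, ?_⟩)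
  rw [Algebra.TensorProduct.tmul_pow, one_pow]
  have h1 := congrArg (TensorProduct.AlgebraTensorModule.cancelBaseChange R A κ κ B) (congrArg ((1 : κ) ⊗ₜ[A] ·) hA)
  simpa using h1

omit [IsDomain R] in
/-- Every element of a base change is a finite sum. -/
theorem exists_tmul_sum (L : Type u) [CommRing L] [Algebra R L] (z : L ⊗[R] B) :
    ∃ S : Finset (L × B), z = ∑ i ∈ S, i.1 ⊗ₜ[R] i.2 := TensorProduct.exists_finset z

/-- A nilpotent in some geometric generic fibre gives some in nearby geometric fibres. -/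
theorem exists_not_isReduced_ext [Algebra.FiniteType R B] (L : Type u) [Field L] [Algebra R L]
    (hL : Function.Injective (algebraMap R L)) (hnr : ¬ IsReduced (L ⊗[R] B)) :
    ∃ c : R, c ≠ 0 ∧ ∀ (p : Ideal R) [p.IsPrime], c ∉ p →
      ∃ (κ' : Type u) (_ : Field κ') (_ : Algebra p.ResidueField κ') (_ : Algebra R κ'),
        IsScalarTower R p.ResidueField κ' ∧ ¬ IsReduced (κ' ⊗[R] B) := by
  classical
  obtain ⟨z, hnil, hz⟩ : ∃ z : L ⊗[R] B, IsNilpotent z ∧ z ≠ 0 := by
    by_contra h
    push Not at h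
    exact hnr ⟨h⟩
  obtain ⟨n, hn⟩ := hnil
  obtain ⟨S, rfl⟩ := exists_tmul_sum L z
  let R' : Subalgebra R L := Algebra.adjoin R (↑(S.image Prod.fst) : Set L)
  haveI : Algebra.FiniteType R R' := (Subalgebra.fg_iff_finiteType R').1 (Subalgebra.fg_adjoin_finset _)
  let e := Algebra.TensorProduct.cancelBaseChange R R' L L B
  let z' : R' ⊗[R] B := ∑ i ∈ S.attach,
    (⟨i.1.1, Algebra.subset_adjoin (Finset.mem_coe.2 (Finset.mem_image_of_mem _ i.2))⟩ : R') ⊗ₜ[R] i.1.2
  have hz' : e ((1 : L) ⊗ₜ[R'] z') = ∑ i ∈ S, i.1 ⊗ₜ[R] i.2 := by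
    rw [TensorProduct.tmul_sum, map_sum, ← Finset.sum_attach S]
    refine Finset.sum_congr rfl fun i _ => ?_
    simp [e, Algebra.smul_def]
  have hinj' : Function.Injective (algebraMap R' L) := Subtype.val_injective
  obtain ⟨r, hr, H⟩ := exists_not_isReduced (R := R') (B := R' ⊗[R] B) L z'
    (fun h => hz (by rw [← hz', h, map_zero])) ⟨n, e.injective (by rw [map_pow, hz', hn, map_zero])⟩ hinj'
  let R'' := Localization.Away r
  haveI : Algebra.FiniteType R R'' := Algebra.FiniteType.trans (S := R') inferInstance inferInstance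
  haveI : IsDomain R'' := IsLocalization.isDomain_localization (powers_le_nonZeroDivisors_of_noZeroDivisors hr)
  obtain ⟨c, hc, Hc⟩ := exists_prime_over (R := R) (B := R'') (⊥ : Ideal R'') (by
    refine eq_bot_iff.2 fun a ha => ?_
    rw [Ideal.mem_comap, Ideal.mem_bot, IsScalarTower.algebraMap_apply R R' R''] at ha
    have h1 := IsLocalization.injective R'' (powers_le_nonZeroDivisors_of_noZeroDivisors hr) (ha.trans (map_zero _).symm)
    exact Ideal.mem_bot.2 (hL ((congrArg Subtype.val h1).trans (map_zero _).symm)))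
  refine ⟨c, hc, fun p _ hcp => ?_⟩
  obtain ⟨q, hq, hqp⟩ := Hc p inferInstance hcp
  haveI := hq
  letI : Algebra R q.ResidueField := ((algebraMap R'' q.ResidueField).comp (algebraMap R R'')).toAlgebra
  let φ : p.ResidueField →+* q.ResidueField := Ideal.ResidueField.map p q (algebraMap R R'') hqp.symm
  letI : Algebra p.ResidueField q.ResidueField := φ.toAlgebra
  refine ⟨q.ResidueField, inferInstance, inferInstance, inferInstance,
    .of_algebraMap_eq fun a => (Ideal.ResidueField.map_algebraMap ..).symm, fun hred => ?_⟩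
  haveI : IsScalarTower R R'' q.ResidueField := .of_algebraMap_eq fun _ => rfl
  letI : Algebra R' q.ResidueField := ((algebraMap R'' q.ResidueField).comp (algebraMap R' R'')).toAlgebra
  haveI : IsScalarTower R R' q.ResidueField := .of_algebraMap_eq fun a => by
    show algebraMap R'' q.ResidueField (algebraMap R R'' a) = algebraMap R'' q.ResidueField (algebraMap R' R'' (algebraMap R R' a))
    rw [← IsScalarTower.algebraMap_apply R R' R'']
  refine H q.ResidueField ?_ (isReduced_of_injective _
    (Algebra.TensorProduct.cancelBaseChange R R' q.ResidueField q.ResidueField B).injective)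
  exact ((IsLocalization.Away.algebraMap_isUnit (S := R'') r).map (algebraMap R'' q.ResidueField)).ne_zero

/-- Multiplication stays injective on the nearby fibres. -/
theorem exists_regular [Algebra.FiniteType R B] (K : Type u) [Field K] [Algebra R K] (g : B)
    (hg : (1 : K) ⊗ₜ[R] g ∈ nonZeroDivisors (K ⊗[R] B)) (hK : Function.Injective (algebraMap R K)) :
    ∃ r : R, r ≠ 0 ∧ ∀ (κ : Type u) [Field κ] [Algebra R κ], algebraMap R κ r ≠ 0 →
      (1 : κ) ⊗ₜ[R] g ∈ nonZeroDivisors (κ ⊗[R] B) := by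
  haveI : Algebra.FiniteType R (B ⧸ Ideal.span {g}) :=
    Algebra.FiniteType.of_surjective (Ideal.Quotient.mkₐ R _) Ideal.Quotient.mk_surjective
  obtain ⟨r₂, hr₂, hfree₂⟩ := exists_freeAt (R := R) (B := B)
  obtain ⟨r₃, hr₃, hfree₃⟩ := exists_freeAt (R := R) (B := B ⧸ Ideal.span {g})
  refine ⟨r₂ * r₃, mul_ne_zero hr₂ hr₃, fun κ _ _ hκ => ?_⟩
  let μ : B →ₗ[R] B := LinearMap.mulLeft R g
  let π : B →ₗ[R] B ⧸ Ideal.span {g} := (Ideal.Quotient.mkₐ R (Ideal.span {g})).toLinearMap
  have hex : Function.Exact μ π := fun y => by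
    refine (Ideal.Quotient.eq_zero_iff_mem).trans (Ideal.mem_span_singleton'.trans ⟨?_, ?_⟩)
    · rintro ⟨c, rfl⟩; exact ⟨c, mul_comm g c⟩
    · rintro ⟨c, rfl⟩; exact ⟨c, mul_comm c g⟩
  have hπ : Function.Surjective π := Ideal.Quotient.mk_surjective
  let A := Localization.Away (r₂ * r₃)
  haveI : Module.Flat R A := IsLocalization.flat _ (Submonoid.powers (r₂ * r₃))
  haveI : Module.Free A (A ⊗[R] B) := hfree₂.free A
    (isUnit_of_dvd_unit (map_dvd _ (dvd_mul_right _ _)) (IsLocalization.Away.algebraMap_isUnit (r₂ * r₃)))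
  haveI : Module.Free A (A ⊗[R] (B ⧸ Ideal.span {g})) := hfree₃.free A
    (isUnit_of_dvd_unit (map_dvd _ (dvd_mul_left _ _)) (IsLocalization.Away.algebraMap_isUnit (r₂ * r₃)))
  have hmul : ∀ (T : Type u) [CommRing T] [Algebra R T] (y : T ⊗[R] B), μ.baseChange T y = ((1 : T) ⊗ₜ[R] g) * y :=
    fun T _ _ y => by
      induction y using TensorProduct.induction_on with
      | zero => simp
      | add a b ha hb => rw [map_add, mul_add, ha, hb]
      | tmul c w => simp [μ]
  letI algAK : Algebra A K := (IsLocalization.Away.lift (r₂ * r₃)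
    (Ne.isUnit ((map_ne_zero_iff _ hK).2 (mul_ne_zero hr₂ hr₃)))).toAlgebra
  haveI : IsScalarTower R A K := .of_algebraMap_eq fun a => (IsLocalization.Away.lift_eq (r₂ * r₃) _ a).symm
  have hAK : Function.Injective (algebraMap A K) := injective_of_isLocalization (Submonoid.powers (r₂ * r₃)) A K hK
  have hμA : Function.Injective (μ.baseChange A) := by
    refine (injective_iff_map_eq_zero (μ.baseChange A)).2 fun y hy => ?_
    let bas := Module.Free.chooseBasis A (A ⊗[R] B)
    let e := Algebra.TensorProduct.cancelBaseChange R A K K B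
    have h1 : e ((1 : K) ⊗ₜ[A] y) * ((1 : K) ⊗ₜ[R] g) = 0 := by
      rw [← show e ((1 : K) ⊗ₜ[A] ((1 : A) ⊗ₜ[R] g)) = (1 : K) ⊗ₜ[R] g by simp [e], ← map_mul,
        Algebra.TensorProduct.tmul_mul_tmul, one_mul, mul_comm y, ← hmul A y, hy, TensorProduct.tmul_zero, map_zero]
    have h2 : (1 : K) ⊗ₜ[A] y = 0 := e.injective ((mem_nonZeroDivisors_iff_right.1 hg _ h1).trans (map_zero e).symm)
    refine bas.repr.injective (Finsupp.ext fun i => hAK ?_)
    have h3 := congrArg (fun z => (bas.baseChange K).repr z i) h2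
    simp only [Module.Basis.baseChange_repr_tmul, map_zero, Finsupp.coe_zero, Pi.zero_apply] at h3
    simp only [map_zero, Finsupp.coe_zero, Pi.zero_apply]
    rwa [Algebra.smul_def, mul_one] at h3
  have hexA : Function.Exact (μ.baseChange A) (π.baseChange A) := lTensor_exact A hex hπ
  have hπA : Function.Surjective (π.baseChange A) := LinearMap.lTensor_surjective A hπ
  obtain ⟨s, hs⟩ := Module.projective_lifting_property (π.baseChange A) LinearMap.id hπA
  obtain ⟨l, hl⟩ := (hexA.split_tfae hμA hπA |>.out 0 1 rfl rfl).1 ⟨s, hs⟩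
  letI : Algebra A κ := (IsLocalization.Away.lift (r₂ * r₃) (Ne.isUnit hκ)).toAlgebra
  haveI : IsScalarTower R A κ := .of_algebraMap_eq fun a => (IsLocalization.Away.lift_eq (r₂ * r₃) _ a).symm
  let e := Algebra.TensorProduct.cancelBaseChange R A κ κ B
  refine mem_nonZeroDivisors_iff_right.2 fun y hy => ?_
  obtain ⟨w, rfl⟩ := e.surjective y
  have h1 : ∀ w, e ((μ.baseChange A).baseChange κ w) = ((1 : κ) ⊗ₜ[R] g) * e w := fun w => by
    induction w using TensorProduct.induction_on with
    | zero => simp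
    | add a b ha hb => simp only [map_add, mul_add, ha, hb]
    | tmul c v =>
      rw [LinearMap.baseChange_tmul, hmul A v, ← show e ((1 : κ) ⊗ₜ[A] ((1 : A) ⊗ₜ[R] g)) = (1 : κ) ⊗ₜ[R] g by simp [e],
        ← map_mul, Algebra.TensorProduct.tmul_mul_tmul, one_mul]
  have h2 : (μ.baseChange A).baseChange κ w = 0 := e.injective (by rw [h1, map_zero, mul_comm]; exact hy)
  have h3 := congrArg (l.baseChange κ) h2
  rw [map_zero, ← LinearMap.comp_apply, ← LinearMap.baseChange_comp, hl, LinearMap.baseChange_id,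
    LinearMap.id_apply] at h3
  rw [h3, map_zero]

end Ring

end Groth.Agent.NearGen
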