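import Mathlib
import Groth.Agent.NearGen.Reduced

/-!
# Spreading from the residue field of the minimal prime
-/

set_option autoImplicit false
set_option linter.style.haveILetI false

universe u

open TensorProduct

namespace Groth.Agent.NearGen

variable {R B : Type u} [CommRing R] [CommRing B] [Algebra R B]
  (p₀ : Ideal R) [p₀.IsPrime] (hp₀ : ∀ q : Ideal R, q.IsPrime → p₀ ≤ q)

/-- A nonzero nilpotent over the fraction field is a unit times a constant one. -/
theorem exists_tmul_of_not_isReduced {S C : Type u} [CommRing S] [CommRing C] [Algebra S C]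
    (K : Type u) [Field K] [Algebra S K] [IsFractionRing S K] (h : ¬ IsReduced (K ⊗[S] C)) :
    ∃ c : C, (1 : K) ⊗ₜ[S] c ≠ 0 ∧ IsNilpotent ((1 : K) ⊗ₜ[S] c) := by
  obtain ⟨z, hz, hz0⟩ : ∃ z : K ⊗[S] C, IsNilpotent z ∧ z ≠ 0 := by
    by_contra hh
    push Not at hh
    exact h ⟨hh⟩
  obtain ⟨⟨c, s⟩, hs⟩ := IsLocalizedModule.surj (nonZeroDivisors S) (TensorProduct.mk S K C 1) z
  have hs' : (1 : K) ⊗ₜ[S] c = algebraMap K (K ⊗[S] C) (algebraMap S K s) * z := by
    rw [← Algebra.smul_def, algebraMap_smul]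
    exact hs.symm
  refine ⟨c, fun h0 => hz0 ((((IsLocalization.map_units K s).map (algebraMap K (K ⊗[S] C)))).mul_right_eq_zero.1
    (hs'.symm.trans h0)), ?_⟩
  rw [hs']
  exact (Commute.all _ _).isNilpotent_mul_left hz

/-- An ideal with no annihilator in a Noetherian base change contains a regular element. -/
theorem exists_mem_nonZeroDivisors {C : Type u} [CommRing C]
    (A : Type u) [CommRing A] [IsNoetherianRing A] (ι : C →+* A) (I : Ideal C)
    (h : ∀ z : A, (∀ b ∈ I, ι b * z = 0) → z = 0) : ∃ g ∈ I, ι g ∈ nonZeroDivisors A := by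
  classical
  by_contra hh
  push Not at hh
  have hfin := associatedPrimes.finite A A
  have hsub : (I : Set C) ⊆ ⋃ P ∈ (hfin.toFinset : Set (Ideal A)), ((P.comap ι : Ideal C) : Set C) := by
    intro b hb
    have hb' : ι b ∈ (nonZeroDivisors A : Set A)ᶜ := hh b hb
    rw [← biUnion_associatedPrimes_eq_compl_nonZeroDivisors] at hb'
    simpa using! hb'
  obtain ⟨P, hP, hle⟩ := (Ideal.subset_union_prime (s := hfin.toFinset) (f := fun P : Ideal A => P.comap ι)
    ⊥ ⊥ (fun P hP _ _ => by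
      haveI := (hfin.mem_toFinset.1 hP).isPrime
      exact Ideal.comap_isPrime ι P)).1 hsub
  obtain ⟨hPp, z, hz⟩ := isAssociatedPrime_iff.1 (hfin.mem_toFinset.1 hP)
  have hz0 : z = 0 := h z fun b hb => by
    have := hle hb
    rw [Ideal.mem_comap, hz] at this
    simpa using! this
  apply hPp.ne_top
  rw [hz, hz0]
  ext
  simp

theorem mem_nonZeroDivisors_equiv {A A' : Type u} [CommRing A] [CommRing A'] (e : A ≃+* A') {a : A}
    (ha : a ∈ nonZeroDivisors A) : e a ∈ nonZeroDivisors A' :=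
  mem_nonZeroDivisors_iff_right.2 fun y hy => by
    obtain ⟨y, rfl⟩ := e.surjective y
    rw [← map_mul] at hy
    rw [mem_nonZeroDivisors_iff_right.1 ha y (e.injective (hy.trans (map_zero e).symm)), map_zero]

omit [p₀.IsPrime] in
theorem cancel_symm_tmul (κ : Type u) [CommRing κ] [Algebra R κ] [Algebra (R ⧸ p₀) κ] [IsScalarTower R (R ⧸ p₀) κ]
    (b : B) : (Algebra.TensorProduct.cancelBaseChange R (R ⧸ p₀) κ κ B).symm ((1 : κ) ⊗ₜ[R] b) =
      (1 : κ) ⊗ₜ[R ⧸ p₀] ((1 : R ⧸ p₀) ⊗ₜ[R] b) := rfl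

include hp₀

/-- A nonreduced generic fibre ring gives nonreduced nearby ones. -/
theorem exists_not_isReduced_residueField [Algebra.FiniteType R B]
    (h : ¬ IsReduced (p₀.ResidueField ⊗[R] B)) :
    ∃ r : R, r ∉ p₀ ∧ ∀ (p : Ideal R) [p.IsPrime], r ∉ p → ¬ IsReduced (p.ResidueField ⊗[R] B) := by
  obtain ⟨c, hc0, hcn⟩ := exists_tmul_of_not_isReduced (S := R ⧸ p₀) (C := (R ⧸ p₀) ⊗[R] B) p₀.ResidueField
    fun hh => h (isReduced_of_injective _
      (Algebra.TensorProduct.cancelBaseChange R (R ⧸ p₀) p₀.ResidueField p₀.ResidueField B).symm.injective)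
  obtain ⟨r, hr, H⟩ := exists_not_isReduced (R := R ⧸ p₀) p₀.ResidueField c hc0 hcn (IsFractionRing.injective _ _)
  obtain ⟨r, rfl⟩ := Ideal.Quotient.mk_surjective r
  refine ⟨r, fun hr0 => hr (Ideal.Quotient.eq_zero_iff_mem.2 hr0), fun p _ hp hred => ?_⟩
  letI : Algebra (R ⧸ p₀) p.ResidueField :=
    (Ideal.Quotient.lift p₀ (algebraMap R p.ResidueField) fun a ha => by
      rw [Ideal.algebraMap_residueField_eq_zero]
      exact hp₀ p inferInstance ha).toAlgebra
  haveI : IsScalarTower R (R ⧸ p₀) p.ResidueField := .of_algebraMap_eq fun _ => rfl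
  refine H p.ResidueField ?_ (isReduced_of_injective _
    (Algebra.TensorProduct.cancelBaseChange R (R ⧸ p₀) p.ResidueField p.ResidueField B).injective)
  show algebraMap R p.ResidueField r ≠ 0
  rwa [Ne, Ideal.algebraMap_residueField_eq_zero]

/-- A geometrically nonreduced generic fibre ring gives geometrically nonreduced nearby ones. -/
theorem exists_not_isReduced_residueField_ext [Algebra.FiniteType R B] (L : Type u) [Field L] [Algebra R L]
    (hL : ∀ a : R, algebraMap R L a = 0 ↔ a ∈ p₀) (h : ¬ IsReduced (L ⊗[R] B)) :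
    ∃ r : R, r ∉ p₀ ∧ ∀ (p : Ideal R) [p.IsPrime], r ∉ p →
      ∃ (κ' : Type u) (_ : Field κ') (_ : Algebra p.ResidueField κ') (_ : Algebra R κ'),
        IsScalarTower R p.ResidueField κ' ∧ ¬ IsReduced (κ' ⊗[R] B) := by
  letI : Algebra (R ⧸ p₀) L := (Ideal.Quotient.lift p₀ (algebraMap R L) fun a ha => (hL a).2 ha).toAlgebra
  haveI : IsScalarTower R (R ⧸ p₀) L := .of_algebraMap_eq fun _ => rfl
  obtain ⟨r, hr, H⟩ := exists_not_isReduced_ext (R := R ⧸ p₀) (B := (R ⧸ p₀) ⊗[R] B) L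
    ((injective_iff_map_eq_zero (algebraMap (R ⧸ p₀) L)).2 fun a ha => by
      obtain ⟨a, rfl⟩ := Ideal.Quotient.mk_surjective a
      exact Ideal.Quotient.eq_zero_iff_mem.2 ((hL a).1 ha))
    fun hh => h (isReduced_of_injective _
      (Algebra.TensorProduct.cancelBaseChange R (R ⧸ p₀) L L B).symm.injective)
  obtain ⟨r, rfl⟩ := Ideal.Quotient.mk_surjective r
  refine ⟨r, fun hr0 => hr (Ideal.Quotient.eq_zero_iff_mem.2 hr0), fun p _ hp => ?_⟩
  haveI : (p.map (Ideal.Quotient.mk p₀)).IsPrime :=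
    Ideal.map_isPrime_of_surjective Ideal.Quotient.mk_surjective (by rw [Ideal.mk_ker]; exact hp₀ p inferInstance)
  have hc : (p.map (Ideal.Quotient.mk p₀)).comap (Ideal.Quotient.mk p₀) = p := by
    rw [Ideal.comap_map_of_surjective _ Ideal.Quotient.mk_surjective, ← RingHom.ker_eq_comap_bot, Ideal.mk_ker]
    exact sup_eq_left.2 (hp₀ p inferInstance)
  obtain ⟨κ', i1, i2, i3, i4, hred⟩ := H (p.map (Ideal.Quotient.mk p₀)) fun hh => hp (hc.le hh)
  let φ : p.ResidueField →+* κ' := (algebraMap (p.map (Ideal.Quotient.mk p₀)).ResidueField κ').comp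
    (Ideal.ResidueField.map p (p.map (Ideal.Quotient.mk p₀)) (Ideal.Quotient.mk p₀) hc.symm)
  letI : Algebra p.ResidueField κ' := φ.toAlgebra
  letI : Algebra R κ' := ((algebraMap (R ⧸ p₀) κ').comp (Ideal.Quotient.mk p₀)).toAlgebra
  haveI : IsScalarTower R (R ⧸ p₀) κ' := .of_algebraMap_eq fun _ => rfl
  refine ⟨κ', i1, inferInstance, inferInstance, .of_algebraMap_eq fun a => ?_, fun hh => hred (isReduced_of_injective _
    (Algebra.TensorProduct.cancelBaseChange R (R ⧸ p₀) κ' κ' B).injective)⟩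
  show algebraMap (R ⧸ p₀) κ' (Ideal.Quotient.mk p₀ a) = φ (algebraMap R p.ResidueField a)
  show _ = algebraMap (p.map (Ideal.Quotient.mk p₀)).ResidueField κ' (Ideal.ResidueField.map _ _ _ _ _)
  rw [Ideal.ResidueField.map_algebraMap]
  exact IsScalarTower.algebraMap_apply _ _ κ' _

/-- An ideal with no annihilator in the generic fibre ring contains an element which is regular in the nearby ones. -/
theorem exists_regular_mem [Algebra.FiniteType R B] (I : Ideal B)
    (h : ∀ z : p₀.ResidueField ⊗[R] B, (∀ b ∈ I, ((1 : p₀.ResidueField) ⊗ₜ[R] b) * z = 0) → z = 0) :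
    ∃ g ∈ I, ∃ r : R, r ∉ p₀ ∧ ∀ (p : Ideal R) [p.IsPrime], r ∉ p →
      (1 : p.ResidueField) ⊗ₜ[R] g ∈ nonZeroDivisors (p.ResidueField ⊗[R] B) := by
  haveI : IsNoetherianRing (p₀.ResidueField ⊗[R] B) := Algebra.FiniteType.isNoetherianRing p₀.ResidueField _
  obtain ⟨g, hgI, hg⟩ := exists_mem_nonZeroDivisors (p₀.ResidueField ⊗[R] B)
    (Algebra.TensorProduct.includeRight : B →ₐ[R] p₀.ResidueField ⊗[R] B).toRingHom I h
  have hg' : (1 : p₀.ResidueField) ⊗ₜ[R ⧸ p₀] ((1 : R ⧸ p₀) ⊗ₜ[R] g) ∈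
      nonZeroDivisors (p₀.ResidueField ⊗[R ⧸ p₀] ((R ⧸ p₀) ⊗[R] B)) :=
    cancel_symm_tmul p₀ p₀.ResidueField g ▸ mem_nonZeroDivisors_equiv
      (Algebra.TensorProduct.cancelBaseChange R (R ⧸ p₀) p₀.ResidueField p₀.ResidueField B).symm.toRingEquiv hg
  obtain ⟨r, hr, H⟩ := exists_regular (R := R ⧸ p₀) p₀.ResidueField _ hg' (IsFractionRing.injective _ _)
  obtain ⟨r, rfl⟩ := Ideal.Quotient.mk_surjective r
  refine ⟨g, hgI, r, fun hr0 => hr (Ideal.Quotient.eq_zero_iff_mem.2 hr0), fun p _ hp => ?_⟩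
  letI : Algebra (R ⧸ p₀) p.ResidueField :=
    (Ideal.Quotient.lift p₀ (algebraMap R p.ResidueField) fun a ha => by
      rw [Ideal.algebraMap_residueField_eq_zero]
      exact hp₀ p inferInstance ha).toAlgebra
  haveI : IsScalarTower R (R ⧸ p₀) p.ResidueField := .of_algebraMap_eq fun _ => rfl
  have hreg := H p.ResidueField (by
    show algebraMap R p.ResidueField r ≠ 0
    rwa [Ne, Ideal.algebraMap_residueField_eq_zero])
  have := mem_nonZeroDivisors_equiv (Algebra.TensorProduct.cancelBaseChange R (R ⧸ p₀) p.ResidueField p.ResidueField B).toRingEquiv hreg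
  rw [← cancel_symm_tmul p₀ p.ResidueField g] at this
  exact (AlgEquiv.apply_symm_apply (Algebra.TensorProduct.cancelBaseChange R (R ⧸ p₀) p.ResidueField p.ResidueField B)
    ((1 : p.ResidueField) ⊗ₜ[R] g)) ▸ this

end Groth.Agent.NearGen
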