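import Mathlib
import Groth.Agent.NearGen.FibreRing
import Groth.Agent.NearGen.Dim

/-!
# Reducedness and density in the fibres near the generic one
-/

set_option autoImplicit false
set_option linter.style.haveILetI false

universe u

open CategoryTheory CategoryTheory.Limits AlgebraicGeometry TensorProduct

namespace Groth.Agent.NearGen

theorem isReduced_ring_of_open {T : Scheme.{u}} [IsReduced T] {A : CommRingCat.{u}} (j : Spec A ⟶ T)
    [IsOpenImmersion j] : _root_.IsReduced A := by
  haveI : IsReduced (Spec A) := isReduced_of_isOpenImmersion j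
  exact (affine_isReduced_iff A).1 inferInstance

/-- Reducedness on jointly surjective charts. -/
theorem isReduced_of_charts {T : Scheme.{u}} {ι : Type*} (A : ι → CommRingCat.{u}) (j : ∀ i, Spec (A i) ⟶ T)
    (hj : ∀ i, IsOpenImmersion (j i)) (hcov : ∀ x, ∃ i, x ∈ Set.range (j i)) (hA : ∀ i, _root_.IsReduced (A i)) :
    IsReduced T := by
  haveI : ∀ x : T, _root_.IsReduced (T.presheaf.stalk x) := fun x => by
    obtain ⟨i, q, rfl⟩ := hcov x
    haveI := hj i
    haveI := hA i
    exact isReduced_of_injective ((j i).stalkMap q).hom (ConcreteCategory.bijective_of_isIso ((j i).stalkMap q)).1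
  exact isReduced_of_isReduced_stalk T

set_option backward.isDefEq.respectTransparency.types false in
/-- An affine scheme over a field is geometrically reduced iff the base changes of the ring are reduced. -/
theorem geometricallyReduced_Spec_iff (K A : Type u) [Field K] [CommRing A] [Algebra K A] :
    GeometricallyReduced (Spec.map (CommRingCat.ofHom (algebraMap K A))) ↔
      ∀ (L : Type u) [Field L] [Algebra K L], _root_.IsReduced (L ⊗[K] A) := by
  constructor
  · intro h L _ _
    haveI : IsReduced (pullback (Spec.map (CommRingCat.ofHom (algebraMap K A)))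
        (Spec.map (CommRingCat.ofHom (algebraMap K L)))) :=
      pullback_of_geometrically (P := IsReduced) h.geometrically_isReduced L _
    haveI := isReduced_ring_of_open (pullbackSpecIso K A L).inv
    exact isReduced_of_injective _ (Algebra.TensorProduct.comm K A L).symm.injective
  · intro h
    refine ⟨geometrically_iff_of_commRing.2 fun L _ _ Z fst snd hZ => ?_⟩
    haveI : _root_.IsReduced (CommRingCat.of (A ⊗[K] L)) := by
      haveI := h L
      exact isReduced_of_injective _ (Algebra.TensorProduct.comm K A L).injective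
    exact isReduced_of_isOpenImmersion (hZ.isoPullback ≪≫ pullbackSpecIso K A L).hom

set_option backward.isDefEq.respectTransparency.types false in
/-- Geometric reducedness on jointly surjective charts. -/
theorem geometricallyReduced_of_charts {T S : Scheme.{u}} (π : T ⟶ S) {ι : Type u} (A : ι → CommRingCat.{u})
    (j : ∀ i, Spec (A i) ⟶ T) (hj : ∀ i, IsOpenImmersion (j i)) (hcov : ∀ x, ∃ i, x ∈ Set.range (j i))
    (h : ∀ i, GeometricallyReduced (j i ≫ π)) : GeometricallyReduced π := by
  refine ⟨fun L _ y Z fst snd hZ => ?_⟩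
  haveI : ∀ i, IsOpenImmersion (j i) := hj
  let 𝒰 : T.OpenCover := Scheme.Cover.mkOfCovers ι (fun i => Spec (A i)) j
    (fun x => (hcov x).imp fun i hi => hi) inferInstance
  haveI : IsReduced (pullback π y) := by
    apply +allowSynthFailures @IsReduced.of_openCover (𝒰 := Scheme.Pullback.openCoverOfLeft 𝒰 π y)
    intro i
    exact pullback_of_geometrically (P := IsReduced) (h i).geometrically_isReduced L y
  exact isReduced_of_isOpenImmersion hZ.isoPullback.hom

set_option backward.isDefEq.respectTransparency.types false in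
theorem geometricallyReduced_chart {T S : Scheme.{u}} (π : T ⟶ S) [GeometricallyReduced π] {V : Scheme.{u}} (j : V ⟶ T)
    [IsOpenImmersion j] : GeometricallyReduced (j ≫ π) := by
  refine ⟨fun L _ y Z fst snd hZ => ?_⟩
  haveI : IsReduced (pullback π y) :=
    pullback_of_geometrically (P := IsReduced) (GeometricallyReduced.geometrically_isReduced (f := π)) L y
  exact isReduced_of_isOpenImmersion (hZ.isoPullback.hom ≫ (pullbackRightPullbackFstIso π y j).inv ≫ pullback.snd _ _)

variable {X Y : Scheme.{u}} (f : X ⟶ Y)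

/-- The charts of a fibre cover it. -/
theorem exists_mem_range_chart {U : Y.Opens} (hU : IsAffineOpen U) (p : PrimeSpectrum Γ(Y, U)) {s : Finset X.Opens}
    (hcov : ∀ x, f x ∈ U → ∃ W ∈ s, x ∈ W) (z : f.fiber (hU.fromSpec p)) :
    ∃ W : s, f.fiberι _ z ∈ W.1 := by
  obtain ⟨W, hW, hz⟩ := hcov (f.fiberι _ z) (by
    rw [show f (f.fiberι _ z) = hU.fromSpec p from (f.fiberHomeo _ z).2]
    exact hU.range_fromSpec.le ⟨_, rfl⟩)
  exact ⟨⟨W, hW⟩, hz⟩

variable [IrreducibleSpace Y] [LocallyOfFiniteType f]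

/-- Nonreducedness of the fibres spreads from the generic one. -/
theorem exists_not_isReduced_fiber [QuasiCompact f] (h : ¬ IsReduced (f.fiber (genericPoint Y))) :
    ∃ V : Y.Opens, genericPoint Y ∈ V ∧ ∀ y ∈ V, ¬ IsReduced (f.fiber y) := by
  obtain ⟨U, hU, hη, -⟩ := exists_isAffineOpen_mem_and_subset (X := Y) (x := genericPoint Y) (U := ⊤) trivial
  obtain ⟨p₀, hp₀, hmin⟩ := exists_generic_prime hU hη
  obtain ⟨s, hs, hcov⟩ := exists_affines f hU
  rw [← hp₀] at h
  obtain ⟨W, hW⟩ : ∃ W : s, letI := (f.appLE U W.1 (hs W.1 W.2).2).hom.toAlgebra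
      ¬ _root_.IsReduced (p₀.asIdeal.ResidueField ⊗[Γ(Y, U)] Γ(X, W.1)) := by
    by_contra hh
    push Not at hh
    choose j θ hj hθ hr _ _ using fun W : s => exists_fibre_chart f hU (hs W.1 W.2).1 (hs W.1 W.2).2 p₀
    refine h (isReduced_of_charts _ j hj (fun z => ?_) hh)
    obtain ⟨W, hW⟩ := exists_mem_range_chart f hU p₀ hcov z
    exact ⟨W, (hr W).ge hW⟩
  letI := (f.appLE U W.1 (hs W.1 W.2).2).hom.toAlgebra
  haveI : Algebra.FiniteType Γ(Y, U) Γ(X, W.1) := finiteType_appLE f hU (hs W.1 W.2).1 (hs W.1 W.2).2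
  obtain ⟨r, hr, H⟩ := exists_not_isReduced_residueField p₀.asIdeal (fun q hq => hmin q hq) hW
  refine ⟨Y.basicOpen r, hp₀ ▸ (mem_basicOpen_iff hU p₀ _).2 hr, fun y hy hred => ?_⟩
  obtain ⟨p, rfl⟩ := hU.range_fromSpec.ge (Y.basicOpen_le _ hy)
  obtain ⟨j, θ, hj, -⟩ := exists_fibre_chart f hU (hs W.1 W.2).1 (hs W.1 W.2).2 p
  exact H p.asIdeal ((mem_basicOpen_iff hU p _).1 hy) (isReduced_ring_of_open j)

set_option backward.isDefEq.respectTransparency.types false in
/-- Geometric nonreducedness of the fibres spreads from the generic one. -/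
theorem exists_not_geometricallyReduced_fiber [QuasiCompact f]
    (h : ¬ GeometricallyReduced (f.fiberToSpecResidueField (genericPoint Y))) :
    ∃ V : Y.Opens, genericPoint Y ∈ V ∧ ∀ y ∈ V, ¬ GeometricallyReduced (f.fiberToSpecResidueField y) := by
  obtain ⟨U, hU, hη, -⟩ := exists_isAffineOpen_mem_and_subset (X := Y) (x := genericPoint Y) (U := ⊤) trivial
  obtain ⟨p₀, hp₀, hmin⟩ := exists_generic_prime hU hη
  obtain ⟨s, hs, hcov⟩ := exists_affines f hU
  rw [← hp₀] at h
  obtain ⟨W, L, i1, i2, hW⟩ : ∃ W : s, letI := (f.appLE U W.1 (hs W.1 W.2).2).hom.toAlgebra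
      ∃ (L : Type u) (_ : Field L) (_ : Algebra p₀.asIdeal.ResidueField L),
      ¬ _root_.IsReduced (L ⊗[p₀.asIdeal.ResidueField] (p₀.asIdeal.ResidueField ⊗[Γ(Y, U)] Γ(X, W.1))) := by
    by_contra hh
    push Not at hh
    choose j θ hj hθ hr _ hπ using fun W : s => exists_fibre_chart f hU (hs W.1 W.2).1 (hs W.1 W.2).2 p₀
    refine h (geometricallyReduced_of_charts _ _ j hj (fun z => ?_) fun W => ?_)
    · obtain ⟨W, hW⟩ := exists_mem_range_chart f hU p₀ hcov z
      exact ⟨W, (hr W).ge hW⟩
    · letI := (f.appLE U W.1 (hs W.1 W.2).2).hom.toAlgebra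
      haveI := hθ W
      rw [hπ W, MorphismProperty.cancel_right_of_respectsIso @GeometricallyReduced,
        geometricallyReduced_Spec_iff]
      intro L _ _
      exact hh W L inferInstance inferInstance
  letI := (f.appLE U W.1 (hs W.1 W.2).2).hom.toAlgebra
  haveI : Algebra.FiniteType Γ(Y, U) Γ(X, W.1) := finiteType_appLE f hU (hs W.1 W.2).1 (hs W.1 W.2).2
  letI : Algebra Γ(Y, U) L := ((algebraMap p₀.asIdeal.ResidueField L).comp (algebraMap Γ(Y, U) p₀.asIdeal.ResidueField)).toAlgebra
  haveI : IsScalarTower Γ(Y, U) p₀.asIdeal.ResidueField L := .of_algebraMap_eq fun _ => rfl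
  obtain ⟨r, hr, H⟩ := exists_not_isReduced_residueField_ext p₀.asIdeal (fun q hq => hmin q hq) L
    (fun a => by
      rw [IsScalarTower.algebraMap_apply Γ(Y, U) p₀.asIdeal.ResidueField L, map_eq_zero,
        Ideal.algebraMap_residueField_eq_zero])
    (fun hh => hW (@isReduced_of_injective _ _ _ _ _ _ _
      (Algebra.TensorProduct.cancelBaseChange Γ(Y, U) p₀.asIdeal.ResidueField L L Γ(X, W.1))
      (AlgEquiv.injective _) hh))
  refine ⟨Y.basicOpen r, hp₀ ▸ (mem_basicOpen_iff hU p₀ _).2 hr, fun y hy hred => ?_⟩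
  obtain ⟨p, rfl⟩ := hU.range_fromSpec.ge (Y.basicOpen_le _ hy)
  obtain ⟨j, θ, hj, hθ, -, -, hπ⟩ := exists_fibre_chart f hU (hs W.1 W.2).1 (hs W.1 W.2).2 p
  obtain ⟨κ', _, _, _, _, hnr⟩ := H p.asIdeal ((mem_basicOpen_iff hU p _).1 hy)
  haveI := geometricallyReduced_chart (f.fiberToSpecResidueField (hU.fromSpec p)) j
  rw [hπ, MorphismProperty.cancel_right_of_respectsIso @GeometricallyReduced,
    geometricallyReduced_Spec_iff] at this
  haveI := this κ'
  exact hnr (isReduced_of_injective _
    (Algebra.TensorProduct.cancelBaseChange Γ(Y, U) p.asIdeal.ResidueField κ' κ' Γ(X, W.1)).symm.injective)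

end Groth.Agent.NearGen
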