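import Mathlib
import Groth.Agent.NearGen.FibreScheme
import Groth.Agent.FieldExtLib.Separable
import Groth.Agent.S9407

/-!
# Geometrically reduced fibres near a geometrically reduced generic one

The smooth locus of the generic fibre contains a regular basic open; both smoothness and regularity
spread out, and an algebra with a smooth regular basic open is geometrically reduced.
-/

set_option autoImplicit false
set_option linter.style.haveILetI false

universe u

open TensorProduct

namespace Groth.Agent.NearGen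

section Localization

variable (k L A : Type u) [CommRing k] [CommRing L] [CommRing A] [Algebra k L] [Algebra k A]
  (M : Submonoid A) (A' : Type u) [CommRing A'] [Algebra A A'] [Algebra k A'] [IsScalarTower k A A'] [IsLocalization M A']

theorem isLocalization_map :
    letI := (Algebra.TensorProduct.map (AlgHom.id L L) (IsScalarTower.toAlgHom k A A')).toRingHom.toAlgebra
    IsLocalization (M.map (Algebra.TensorProduct.includeRight (R := k) (A := L) : A →ₐ[k] L ⊗[k] A)) (L ⊗[k] A') := by
  letI := (Algebra.TensorProduct.map (AlgHom.id L L) (IsScalarTower.toAlgHom k A A')).toRingHom.toAlgebra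
  haveI : IsScalarTower L (L ⊗[k] A) (L ⊗[k] A') :=
    .of_algebraMap_eq fun l => ((Algebra.TensorProduct.map (AlgHom.id L L) (IsScalarTower.toAlgHom k A A')).commutes l).symm
  exact IsLocalization.tensorProduct_tensorProduct_right k L M A' (RingHom.ext fun a => by
    show Algebra.TensorProduct.map (AlgHom.id L L) (IsScalarTower.toAlgHom k A A') ((1 : L) ⊗ₜ a) = _
    rw [Algebra.TensorProduct.map_tmul]
    rfl)

include M in
theorem isReduced_tensor_localization [IsReduced (L ⊗[k] A)] : IsReduced (L ⊗[k] A') := by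
  letI := (Algebra.TensorProduct.map (AlgHom.id L L) (IsScalarTower.toAlgHom k A A')).toRingHom.toAlgebra
  haveI := isLocalization_map k L A M A'
  exact isReduced_localizationPreserves (M.map (Algebra.TensorProduct.includeRight (R := k) (A := L) : A →ₐ[k] L ⊗[k] A))
    (L ⊗[k] A') inferInstance

include M in
theorem injective_map_of_regular (hM : ∀ m ∈ M, (1 : L) ⊗ₜ[k] m ∈ nonZeroDivisors (L ⊗[k] A)) :
    Function.Injective (Algebra.TensorProduct.map (AlgHom.id L L) (IsScalarTower.toAlgHom k A A')) := by
  letI := (Algebra.TensorProduct.map (AlgHom.id L L) (IsScalarTower.toAlgHom k A A')).toRingHom.toAlgebra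
  haveI := isLocalization_map k L A M A'
  exact IsLocalization.injective (M := M.map (Algebra.TensorProduct.includeRight (R := k) (A := L) : A →ₐ[k] L ⊗[k] A))
    (L ⊗[k] A') (by rintro _ ⟨m, hm, rfl⟩; exact hM m hm)

end Localization

/-- The localization of a geometrically reduced algebra at a minimal prime is formally smooth. -/
theorem formallySmooth_minimalPrime {K A : Type u} [Field K] [CommRing A] [Algebra K A]
    (hA : ∀ (L : Type u) [Field L] [Algebra K L], IsReduced (L ⊗[K] A)) (P : Ideal A) [P.IsPrime]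
    (hP : P ∈ minimalPrimes A) : Algebra.FormallySmooth K (Localization.AtPrime P) := by
  haveI : IsReduced A := by
    haveI := hA K
    exact isReduced_of_injective _ (Algebra.TensorProduct.lid K A).symm.injective
  haveI : Ring.KrullDimLE 0 (Localization.AtPrime P) := .of_isLocalization _ hP _
  letI : Field (Localization.AtPrime P) := Ring.KrullDimLE.isField_of_isReduced.toField
  refine FieldExtLib.formallySmooth_of_isGeometricallyReduced ((Algebra.isGeometricallyReduced_field_iff _ _).2 ?_)
  haveI := hA (AlgebraicClosure K)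
  exact isReduced_tensor_localization K (AlgebraicClosure K) A P.primeCompl (Localization.AtPrime P)

section Localization2

variable {R B : Type u} [CommRing R] [IsDomain R] [CommRing B] [Algebra R B]

/-- A regular basic open inside the smooth locus of the generic fibre. -/
theorem exists_regular_smooth [Algebra.FiniteType R B] (K : Type u) [Field K] [Algebra R K] [IsFractionRing R K]
    (hB : ∀ (L : Type u) [Field L] [Algebra K L], IsReduced (L ⊗[K] (K ⊗[R] B))) :
    ∃ g : B, (1 : K) ⊗ₜ[R] g ∈ nonZeroDivisors (K ⊗[R] B) ∧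
      ∀ Q : PrimeSpectrum (K ⊗[R] B), (1 : K) ⊗ₜ[R] g ∉ Q.asIdeal → Q ∈ Algebra.smoothLocus K (K ⊗[R] B) := by
  classical
  haveI : IsReduced (K ⊗[R] B) := by
    haveI := hB K
    exact isReduced_of_injective _ (Algebra.TensorProduct.lid K (K ⊗[R] B)).symm.injective
  haveI : IsNoetherianRing (K ⊗[R] B) := Algebra.FiniteType.isNoetherianRing K _
  haveI : Algebra.FinitePresentation K (K ⊗[R] B) := Algebra.FinitePresentation.of_finiteType.mp inferInstance
  let J := PrimeSpectrum.vanishingIdeal (Algebra.smoothLocus K (K ⊗[R] B))ᶜ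
  let ι : B →+* K ⊗[R] B := (Algebra.TensorProduct.includeRight : B →ₐ[R] K ⊗[R] B).toRingHom
  have hmin : ∀ P ∈ minimalPrimes (K ⊗[R] B), ¬ J ≤ P := fun P hP hle => by
    haveI := Ideal.minimalPrimes_isPrime hP
    have h1 : (⟨P, inferInstance⟩ : PrimeSpectrum (K ⊗[R] B)) ∈ PrimeSpectrum.zeroLocus (J : Set (K ⊗[R] B)) := hle
    rw [PrimeSpectrum.zeroLocus_vanishingIdeal_eq_closure,
      (Algebra.isOpen_smoothLocus (R := K) (A := K ⊗[R] B)).isClosed_compl.closure_eq] at h1
    exact h1 (formallySmooth_minimalPrime hB P hP)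
  obtain ⟨g, hg, hreg⟩ := exists_mem_nonZeroDivisors (K ⊗[R] B) ι (J.comap ι) fun z hz => by
    refine IsReduced.eq_zero z (mem_nilradical.1 ?_)
    rw [nilradical, ← Ideal.sInf_minimalPrimes]
    refine Ideal.mem_sInf.2 fun {P} hP => by_contra fun hzP => hmin P hP fun j hj => ?_
    haveI := Ideal.minimalPrimes_isPrime hP
    obtain ⟨⟨b, s⟩, hs⟩ := IsLocalizedModule.surj (nonZeroDivisors R) (TensorProduct.mk R K B 1) j
    have hs' : ι b = algebraMap R (K ⊗[R] B) s * j := by rw [← Algebra.smul_def]; exact hs.symm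
    have hb : b ∈ J.comap ι := by
      rw [Ideal.mem_comap, hs']
      exact J.mul_mem_left _ hj
    have h2 : ι b ∈ P := ((Ideal.IsPrime.mem_or_mem ‹P.IsPrime› ((hz b hb).symm ▸ P.zero_mem)).resolve_right hzP)
    rw [hs'] at h2
    refine (Ideal.IsPrime.mem_or_mem ‹P.IsPrime› h2).resolve_left fun hh => ‹P.IsPrime›.ne_top (Ideal.eq_top_of_isUnit_mem _ hh ?_)
    rw [IsScalarTower.algebraMap_apply R K (K ⊗[R] B)]
    exact (IsLocalization.map_units K s).map _
  refine ⟨g, hreg, fun Q hQ => by_contra fun hh => hQ ?_⟩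
  exact (PrimeSpectrum.mem_vanishingIdeal _ _).1 hg Q hh

end Localization2

section Spread

variable {A C : Type u} [CommRing A] [CommRing C] [Algebra A C]

/-- Smoothness at the primes over the generic point spreads. -/
theorem exists_smooth_away [IsDomain A] [Algebra.FinitePresentation A C] (K : Type u) [Field K] [Algebra A K] [IsFractionRing A K]
    (CK : Type u) [CommRing CK] [Algebra C CK] [Algebra K CK] [Algebra A CK] [IsScalarTower A C CK] [IsScalarTower A K CK]
    [IsLocalization (Algebra.algebraMapSubmonoid C (nonZeroDivisors A)) CK] (g : C)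
    (hg : ∀ Q : PrimeSpectrum CK, algebraMap C CK g ∉ Q.asIdeal → Q ∈ Algebra.smoothLocus K CK) :
    ∃ a : A, a ≠ 0 ∧ Algebra.Smooth A (Localization.Away (algebraMap A C a * g)) := by
  classical
  let J := PrimeSpectrum.vanishingIdeal (Algebra.smoothLocus A C)ᶜ
  have hJ' : ∀ q : PrimeSpectrum C, J ≤ q.asIdeal → q ∉ Algebra.smoothLocus A C := fun q hJ => by
    have h1 : q ∈ PrimeSpectrum.zeroLocus (J : Set C) := hJ
    rwa [PrimeSpectrum.zeroLocus_vanishingIdeal_eq_closure,
      (Algebra.isOpen_smoothLocus (R := A) (A := C)).isClosed_compl.closure_eq] at h1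
  have key : ∀ q : PrimeSpectrum C, q.asIdeal.under A = ⊥ → J ≤ q.asIdeal → g ∈ q.asIdeal := fun q hq hJ => by
    by_contra hgq
    refine hJ' q hJ ?_
    have hd : Disjoint ((Algebra.algebraMapSubmonoid C (nonZeroDivisors A)) : Set C) (q.asIdeal : Set C) := by
      refine Set.disjoint_left.2 fun x ⟨a, ha, hax⟩ hxq => nonZeroDivisors.ne_zero ha ?_
      exact Ideal.mem_bot.1 (hq.le (show algebraMap A C a ∈ q.asIdeal from hax ▸ hxq))
    let Q : Ideal CK := q.asIdeal.map (algebraMap C CK)
    haveI : Q.IsPrime := IsLocalization.isPrime_of_isPrime_disjoint _ _ q.asIdeal q.isPrime hd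
    have hc : Q.comap (algebraMap C CK) = q.asIdeal :=
      IsLocalization.comap_map_of_isPrime_disjoint (Algebra.algebraMapSubmonoid C (nonZeroDivisors A)) CK q.isPrime hd
    haveI : Algebra.FormallySmooth K (Localization.AtPrime Q) := hg ⟨Q, inferInstance⟩ fun hh => hgq (hc.le hh)
    haveI : Algebra.FormallySmooth A K := Algebra.FormallySmooth.of_isLocalization (nonZeroDivisors A)
    haveI : Algebra.FormallySmooth A (Localization.AtPrime Q) := Algebra.FormallySmooth.comp A K _
    haveI : IsLocalization.AtPrime (Localization.AtPrime Q) q.asIdeal := by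
      simpa only [hc] using IsLocalization.isLocalization_isLocalization_atPrime_isLocalization
        (Algebra.algebraMapSubmonoid C (nonZeroDivisors A)) (Localization.AtPrime Q) Q
    exact Algebra.FormallySmooth.of_equiv ((IsLocalization.algEquiv q.asIdeal.primeCompl
      (Localization.AtPrime Q) (Localization.AtPrime q.asIdeal)).restrictScalars A)
  obtain ⟨a, ha, H⟩ := exists_le_of_generic (R := A) (B := C ⧸ J) (Ideal.span {Ideal.Quotient.mk J g}) fun q hq hq0 => by
    rw [Ideal.span_le, Set.singleton_subset_iff]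
    exact key ⟨q.comap (Ideal.Quotient.mk J), Ideal.comap_isPrime _ _⟩ (by rw [← hq0]; rfl)
      (fun j hj => by show Ideal.Quotient.mk J j ∈ q; rw [Ideal.Quotient.eq_zero_iff_mem.2 hj]; exact q.zero_mem)
  refine ⟨a, ha, Algebra.basicOpen_subset_smoothLocus_iff_smooth.1 fun q hq => ?_⟩
  by_contra hns
  have hJ : J ≤ q.asIdeal := fun j hj => (PrimeSpectrum.mem_vanishingIdeal _ _).1 hj q hns
  haveI : (q.asIdeal.map (Ideal.Quotient.mk J)).IsPrime :=
    Ideal.map_isPrime_of_surjective Ideal.Quotient.mk_surjective (by rwa [Ideal.mk_ker])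
  have hc0 : (q.asIdeal.map (Ideal.Quotient.mk J)).comap (Ideal.Quotient.mk J) = q.asIdeal := by
    rw [Ideal.comap_map_of_surjective _ Ideal.Quotient.mk_surjective, ← RingHom.ker_eq_comap_bot, Ideal.mk_ker]
    exact sup_eq_left.2 hJ
  have h1 : Ideal.Quotient.mk J g ∈ q.asIdeal.map (Ideal.Quotient.mk J) :=
    H _ inferInstance (fun hh => hq (q.asIdeal.mul_mem_right _ (hc0.le hh))) (Ideal.mem_span_singleton_self _)
  exact hq (q.asIdeal.mul_mem_left _ (hc0.le h1))

/-- A regular smooth basic open makes a base change to a field reduced. -/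
theorem isReduced_tensor_of_smooth_away (κ : Type u) [Field κ] [Algebra A κ] (h : C)
    [Algebra.Smooth A (Localization.Away h)] (hreg : (1 : κ) ⊗ₜ[A] h ∈ nonZeroDivisors (κ ⊗[A] C)) :
    IsReduced (κ ⊗[A] C) := by
  haveI : IsReduced (κ ⊗[A] Localization.Away h) := Groth.Agent.S9407.result κ _
  refine isReduced_of_injective _ (injective_map_of_regular A κ C (Submonoid.powers h) (Localization.Away h) ?_)
  rintro _ ⟨n, rfl⟩
  have h2 := pow_mem hreg n
  rwa [Algebra.TensorProduct.tmul_pow, one_pow] at h2

/-- Geometric reducedness of the generic fibre ring spreads out, finitely presented case. -/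
theorem exists_isReduced_of_fp [IsDomain A] [Algebra.FinitePresentation A C] (K : Type u) [Field K] [Algebra A K] [IsFractionRing A K]
    (hC : ∀ (L : Type u) [Field L] [Algebra K L], IsReduced (L ⊗[K] (K ⊗[A] C))) :
    ∃ r : A, r ≠ 0 ∧ ∀ (κ : Type u) [Field κ] [Algebra A κ], algebraMap A κ r ≠ 0 → IsReduced (κ ⊗[A] C) := by
  obtain ⟨g, hreg, hsm⟩ := exists_regular_smooth K hC
  obtain ⟨r₁, hr₁, hreg'⟩ := exists_regular K g hreg (IsFractionRing.injective A K)
  letI : Algebra C (K ⊗[A] C) := Algebra.TensorProduct.rightAlgebra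
  haveI : IsLocalization (Algebra.algebraMapSubmonoid C (nonZeroDivisors A)) (K ⊗[A] C) :=
    inferInstance
  obtain ⟨a, ha, hsm'⟩ := exists_smooth_away (A := A) (C := C) K (K ⊗[A] C) g hsm
  refine ⟨a * r₁, mul_ne_zero ha hr₁, fun κ _ _ hκ => ?_⟩
  rw [map_mul] at hκ
  refine isReduced_tensor_of_smooth_away κ (algebraMap A C a * g) ?_
  have h1 : (1 : κ) ⊗ₜ[A] (algebraMap A C a * g) = algebraMap κ (κ ⊗[A] C) (algebraMap A κ a) * ((1 : κ) ⊗ₜ[A] g) := by
    rw [← mul_one (1 : κ), ← Algebra.TensorProduct.tmul_mul_tmul, mul_one]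
    congr 1
    rw [← IsScalarTower.algebraMap_apply]
    exact (Algebra.TensorProduct.includeRight : C →ₐ[A] κ ⊗[A] C).commutes a
  rw [h1]
  exact mul_mem ((Ne.isUnit (left_ne_zero_of_mul hκ)).map (algebraMap κ (κ ⊗[A] C))).mem_nonZeroDivisors
    (hreg' κ (right_ne_zero_of_mul hκ))

end Spread

/-- Geometric reducedness of the generic fibre ring spreads out. -/
theorem exists_isReduced {R B : Type u} [CommRing R] [IsDomain R] [CommRing B] [Algebra R B] [Algebra.FiniteType R B]
    (K : Type u) [Field K] [Algebra R K] [IsFractionRing R K]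
    (hB : ∀ (L : Type u) [Field L] [Algebra K L], IsReduced (L ⊗[K] (K ⊗[R] B))) :
    ∃ r : R, r ≠ 0 ∧ ∀ (κ : Type u) [Field κ] [Algebra R κ], algebraMap R κ r ≠ 0 → IsReduced (κ ⊗[R] B) := by
  obtain ⟨r, -, hr, -, hfp⟩ := GenFree.exists_algebra (R := R) (S := B) (g := (1 : R)) one_ne_zero
  let A := Localization.Away r
  haveI : IsDomain A := IsLocalization.isDomain_localization (powers_le_nonZeroDivisors_of_noZeroDivisors hr)
  letI : Algebra A K := (IsLocalization.Away.lift r (Ne.isUnit ((map_ne_zero_iff _ (IsFractionRing.injective R K)).2 hr))).toAlgebra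
  haveI : IsScalarTower R A K := .of_algebraMap_eq fun a => (IsLocalization.Away.lift_eq r _ a).symm
  haveI : IsFractionRing A K := IsFractionRing.isFractionRing_of_isDomain_of_isLocalization (Submonoid.powers r) A K
  haveI : Algebra.FinitePresentation A (A ⊗[R] B) := hfp
  let e := Algebra.TensorProduct.cancelBaseChange R A K K B
  obtain ⟨a, ha, H⟩ := exists_isReduced_of_fp (A := A) (C := A ⊗[R] B) K fun L _ _ => by
    haveI := hB L
    exact isReduced_of_injective _ (Algebra.TensorProduct.congr (AlgEquiv.refl : L ≃ₐ[K] L) e).injective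
  obtain ⟨a₀, t, hat⟩ := IsLocalization.exists_mk'_eq (Submonoid.powers r) a
  refine ⟨r * a₀, mul_ne_zero hr fun h => ha (by rw [← hat, h, IsLocalization.mk'_zero]), fun κ _ _ hκ => ?_⟩
  rw [map_mul] at hκ
  letI : Algebra A κ := (IsLocalization.Away.lift r (Ne.isUnit (left_ne_zero_of_mul hκ))).toAlgebra
  haveI : IsScalarTower R A κ := .of_algebraMap_eq fun a => (IsLocalization.Away.lift_eq r _ a).symm
  haveI := H κ fun h0 => right_ne_zero_of_mul hκ (by
    rw [IsScalarTower.algebraMap_apply R A κ, ← IsLocalization.mk'_spec A a₀ t, map_mul, hat, h0, zero_mul])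
  exact isReduced_of_injective _ (Algebra.TensorProduct.cancelBaseChange R A κ κ B).symm.injective

end Groth.Agent.NearGen
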