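import Mathlib
import Groth.Agent.NearGen.GeomRed
import Groth.Agent.NearGen.FibreRing
import Groth.Agent.NearGen.Dim
import Groth.Agent.ConstrNoeth.Basic
import Groth.Agent.S9777

/-!
# Constructibility of fibre properties of finitely presented algebras
-/

set_option autoImplicit false
set_option linter.style.haveILetI false

universe u

open TensorProduct Topology

namespace Groth.Agent.NearGen

/-- A property constant near every prime of a Noetherian ring defines a constructible set. -/
theorem isConstructible_of_const_near {A : Type u} [CommRing A] [IsNoetherianRing A] (E : Set (PrimeSpectrum A))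
    (h : ∀ p₀ : PrimeSpectrum A, ∃ r : A, r ∉ p₀.asIdeal ∧
      ∀ p : PrimeSpectrum A, p₀.asIdeal ≤ p.asIdeal → r ∉ p.asIdeal → (p ∈ E ↔ p₀ ∈ E)) :
    IsConstructible E := by
  refine ConstrNoeth.isConstructible_of_irreducible fun Y hY hirr hd => ?_
  have hξ : IsGenericPoint hirr.genericPoint Y := by
    have := hirr.isGenericPoint_genericPoint_closure
    rwa [hY.closure_eq] at this
  obtain ⟨r, hr, H⟩ := h hirr.genericPoint
  have hsub : ∀ p ∈ Y, hirr.genericPoint.asIdeal ≤ p.asIdeal := fun p hp =>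
    (PrimeSpectrum.le_iff_specializes _ _).2 (hξ.specializes hp)
  refine ⟨PrimeSpectrum.basicOpen r, (PrimeSpectrum.basicOpen r).2, ⟨_, hr, hξ.mem⟩, fun p hp => (H p (hsub p hp.2) hp.1).2 ?_⟩
  by_contra hE
  have h1 : E ∩ Y ⊆ PrimeSpectrum.zeroLocus {r} := fun p hp => by
    rw [PrimeSpectrum.mem_zeroLocus, Set.singleton_subset_iff]
    by_contra hrp
    exact hE ((H p (hsub p hp.2) hrp).1 hp.1)
  exact hr (by simpa [PrimeSpectrum.mem_zeroLocus] using
    closure_minimal h1 (PrimeSpectrum.isClosed_zeroLocus _) (hd hξ.mem))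

/-- A set pulled back from a Noetherian ring, constant near every prime there, is constructible. -/
theorem isConstructible_of_descent {A₀ A : Type u} [CommRing A₀] [IsNoetherianRing A₀] [CommRing A] [Algebra A₀ A]
    (E₀ : Set (PrimeSpectrum A₀)) (E : Set (PrimeSpectrum A))
    (hE : ∀ p : PrimeSpectrum A, p ∈ E ↔ PrimeSpectrum.comap (algebraMap A₀ A) p ∈ E₀)
    (h : ∀ p₀ : PrimeSpectrum A₀, ∃ r : A₀, r ∉ p₀.asIdeal ∧
      ∀ p : PrimeSpectrum A₀, p₀.asIdeal ≤ p.asIdeal → r ∉ p.asIdeal → (p ∈ E₀ ↔ p₀ ∈ E₀)) :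
    IsConstructible E := by
  obtain ⟨D, hD⟩ := PrimeSpectrum.exists_constructibleSetData_iff.2 (isConstructible_of_const_near E₀ h)
  refine PrimeSpectrum.exists_constructibleSetData_iff.1 ⟨D.map (algebraMap A₀ A), ?_⟩
  rw [PrimeSpectrum.ConstructibleSetData.toSet_map, hD]
  ext p
  exact (hE p).symm

/-- A finitely presented algebra comes from a Noetherian ring. -/
theorem exists_noetherian_model (A B : Type u) [CommRing A] [CommRing B] [Algebra A B] [Algebra.FinitePresentation A B] :
    ∃ (A₀ : Type u) (_ : CommRing A₀) (_ : IsNoetherianRing A₀) (_ : Algebra A₀ A) (B₀ : Type u) (_ : CommRing B₀)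
      (_ : Algebra A₀ B₀), Algebra.FinitePresentation A₀ B₀ ∧ Nonempty ((A ⊗[A₀] B₀) ≃ₐ[A] B) := by
  let P := Algebra.Presentation.ofFinitePresentation A B
  haveI : IsNoetherianRing P.Core := Algebra.FiniteType.isNoetherianRing ℤ _
  exact ⟨P.Core, inferInstance, inferInstance, inferInstance, P.ModelOfHasCoeffs P.Core, inferInstance, inferInstance,
    inferInstance, ⟨P.tensorModelOfHasCoeffsEquiv P.Core⟩⟩

section Model

variable {A₀ A B B₀ : Type u} [CommRing A₀] [CommRing A] [CommRing B] [CommRing B₀]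
  [Algebra A₀ A] [Algebra A₀ B₀] [Algebra A B] (e : (A ⊗[A₀] B₀) ≃ₐ[A] B)

include e in
/-- Fibres of a model. -/
theorem nonempty_fibre_equiv (L : Type u) [CommRing L] [Algebra A L] [Algebra A₀ L] [IsScalarTower A₀ A L] :
    Nonempty ((L ⊗[A] B) ≃ₐ[L] (L ⊗[A₀] B₀)) :=
  ⟨(Algebra.TensorProduct.congr (AlgEquiv.refl : L ≃ₐ[L] L) e.symm).trans
    (Algebra.TensorProduct.cancelBaseChange A₀ A L L B₀)⟩

end Model

/-- The Krull dimension of an algebra does not change under a field extension. -/
theorem ringKrullDim_tensor_tower {A B : Type u} [CommRing A] [CommRing B] [Algebra A B] [Algebra.FiniteType A B]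
    (κ L : Type u) [Field κ] [Field L] [Algebra A κ] [Algebra A L] [Algebra κ L] [IsScalarTower A κ L] :
    ringKrullDim (L ⊗[A] B) = ringKrullDim (κ ⊗[A] B) := by
  rw [← ringKrullDim_eq_of_ringEquiv (Algebra.TensorProduct.cancelBaseChange A κ L L B).toRingEquiv,
    ringKrullDim_eq_of_ringEquiv (Algebra.TensorProduct.comm κ L (κ ⊗[A] B)).toRingEquiv]
  exact S9777.ringKrullDim_tensor_field

/-- The primes over which the fibre has the given dimension form a constructible set. -/
theorem isConstructible_ringKrullDim {A B : Type u} [CommRing A] [CommRing B] [Algebra A B]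
    [Algebra.FinitePresentation A B] (Q : WithBot ℕ∞ → Prop) :
    IsConstructible {p : PrimeSpectrum A | Q (ringKrullDim (p.asIdeal.ResidueField ⊗[A] B))} := by
  obtain ⟨A₀, _, _, _, B₀, _, _, hfp, ⟨e⟩⟩ := exists_noetherian_model A B
  refine isConstructible_of_descent (A₀ := A₀)
    {p : PrimeSpectrum A₀ | Q (ringKrullDim (p.asIdeal.ResidueField ⊗[A₀] B₀))} _ (fun p => ?_) fun p₀ => ?_
  · let L := p.asIdeal.ResidueField
    let φ := Ideal.ResidueField.map (PrimeSpectrum.comap (algebraMap A₀ A) p).asIdeal p.asIdeal (algebraMap A₀ A) rfl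
    letI : Algebra (PrimeSpectrum.comap (algebraMap A₀ A) p).asIdeal.ResidueField L := φ.toAlgebra
    haveI : IsScalarTower A₀ (PrimeSpectrum.comap (algebraMap A₀ A) p).asIdeal.ResidueField L :=
      .of_algebraMap_eq fun a => by
        rw [IsScalarTower.algebraMap_apply A₀ A L]
        exact (Ideal.ResidueField.map_algebraMap ..).symm
    obtain ⟨g⟩ := nonempty_fibre_equiv e L
    show Q _ ↔ Q _
    rw [ringKrullDim_eq_of_ringEquiv g.toRingEquiv,
      ringKrullDim_tensor_tower (PrimeSpectrum.comap (algebraMap A₀ A) p).asIdeal.ResidueField L]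
  · obtain ⟨r, n, hr, H⟩ := exists_ringKrullDim_eq (R := A₀ ⧸ p₀.asIdeal) (B := (A₀ ⧸ p₀.asIdeal) ⊗[A₀] B₀)
    obtain ⟨r, rfl⟩ := Ideal.Quotient.mk_surjective r
    refine ⟨r, fun h => hr (Ideal.Quotient.eq_zero_iff_mem.2 h), fun p hp hrp => ?_⟩
    have key : ∀ q : PrimeSpectrum A₀, p₀.asIdeal ≤ q.asIdeal → r ∉ q.asIdeal →
        ringKrullDim (q.asIdeal.ResidueField ⊗[A₀] B₀) = n := fun q hq hrq => by
      letI : Algebra (A₀ ⧸ p₀.asIdeal) q.asIdeal.ResidueField :=
        (Ideal.Quotient.lift p₀.asIdeal (algebraMap A₀ q.asIdeal.ResidueField) fun a ha => by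
          rw [Ideal.algebraMap_residueField_eq_zero]; exact hq ha).toAlgebra
      haveI : IsScalarTower A₀ (A₀ ⧸ p₀.asIdeal) q.asIdeal.ResidueField := .of_algebraMap_eq fun _ => rfl
      rw [← H q.asIdeal.ResidueField (by
        show algebraMap A₀ q.asIdeal.ResidueField r ≠ 0
        rwa [Ne, Ideal.algebraMap_residueField_eq_zero])]
      exact ringKrullDim_eq_of_ringEquiv (Algebra.TensorProduct.cancelBaseChange A₀ (A₀ ⧸ p₀.asIdeal)
        q.asIdeal.ResidueField q.asIdeal.ResidueField B₀).symm.toRingEquiv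
    show Q _ ↔ Q _
    rw [key p hp hrp, key p₀ le_rfl fun h => hr (Ideal.Quotient.eq_zero_iff_mem.2 h)]

/-- The algebra is reduced over all fields lying over the prime. -/
def GeomRedAt {A : Type u} [CommRing A] (B : Type u) [CommRing B] [Algebra A B] (p : Ideal A) : Prop :=
  ∀ (L : Type u) [Field L] [Algebra A L], (∀ a : A, algebraMap A L a = 0 ↔ a ∈ p) → IsReduced (L ⊗[A] B)

/-- Two field extensions have a common one. -/
theorem exists_common_extension (k K L : Type u) [Field k] [Field K] [Field L] (φ : k →+* K) (ψ : k →+* L) :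
    ∃ (M : Type u) (_ : Field M) (i₁ : K →+* M) (i₂ : L →+* M), i₁.comp φ = i₂.comp ψ := by
  letI := φ.toAlgebra
  letI := ψ.toAlgebra
  obtain ⟨m, hm⟩ := Ideal.exists_maximal (K ⊗[k] L)
  exact ⟨(K ⊗[k] L) ⧸ m, Ideal.Quotient.field m, (Ideal.Quotient.mk m).comp Algebra.TensorProduct.includeLeftRingHom,
    (Ideal.Quotient.mk m).comp (Algebra.TensorProduct.includeRight : L →ₐ[k] K ⊗[k] L).toRingHom,
    RingHom.ext fun a => congrArg (Ideal.Quotient.mk m)
      (((Algebra.TensorProduct.includeRight : L →ₐ[k] K ⊗[k] L).commutes a).trans rfl).symm⟩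

/-- The primes with geometrically reduced fibres form a constructible set. -/
theorem isConstructible_geomRedAt {A B : Type u} [CommRing A] [CommRing B] [Algebra A B]
    [Algebra.FinitePresentation A B] :
    IsConstructible {p : PrimeSpectrum A | GeomRedAt B p.asIdeal} := by
  obtain ⟨A₀, _, _, _, B₀, _, _, hfp, ⟨e⟩⟩ := exists_noetherian_model A B
  refine isConstructible_of_descent (A₀ := A₀) {p : PrimeSpectrum A₀ | GeomRedAt B₀ p.asIdeal} _ (fun p => ?_) fun p₀ => ?_
  · constructor
    · intro h L₀ _ _ hL₀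
      -- compare with a field containing both residue fields
      let p' := (PrimeSpectrum.comap (algebraMap A₀ A) p).asIdeal
      let φ : p'.ResidueField →+* p.asIdeal.ResidueField := Ideal.ResidueField.map p' p.asIdeal (algebraMap A₀ A) rfl
      let ψ : p'.ResidueField →+* L₀ := Ideal.ResidueField.lift p' (algebraMap A₀ L₀) (fun a ha => (hL₀ a).2 ha)
        (fun a ha => Ne.isUnit fun h0 => ha ((hL₀ a).1 h0))
      obtain ⟨M, iM, i₁, i₂, hi⟩ := exists_common_extension _ _ _ φ ψ
      letI : Algebra A M := (i₁.comp (algebraMap A p.asIdeal.ResidueField)).toAlgebra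
      letI : Algebra A₀ M := (i₂.comp (algebraMap A₀ L₀)).toAlgebra
      letI : Algebra L₀ M := i₂.toAlgebra
      haveI : IsScalarTower A₀ L₀ M := .of_algebraMap_eq fun _ => rfl
      haveI : IsScalarTower A₀ A M := .of_algebraMap_eq fun a => by
        show i₂ (algebraMap A₀ L₀ a) = i₁ (algebraMap A p.asIdeal.ResidueField (algebraMap A₀ A a))
        rw [← show ψ (algebraMap A₀ p'.ResidueField a) = algebraMap A₀ L₀ a from Ideal.ResidueField.lift_algebraMap ..,
          ← show φ (algebraMap A₀ p'.ResidueField a) = algebraMap A p.asIdeal.ResidueField (algebraMap A₀ A a) from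
            Ideal.ResidueField.map_algebraMap ..]
        exact (RingHom.congr_fun hi _).symm
      haveI := h M fun a => by
        show i₁ (algebraMap A p.asIdeal.ResidueField a) = 0 ↔ _
        rw [map_eq_zero, Ideal.algebraMap_residueField_eq_zero]
      obtain ⟨g⟩ := nonempty_fibre_equiv e M
      haveI : IsReduced (M ⊗[A₀] B₀) := isReduced_of_injective _ g.symm.injective
      let j : L₀ ⊗[A₀] B₀ →ₐ[A₀] M ⊗[A₀] B₀ :=
        Algebra.TensorProduct.map (IsScalarTower.toAlgHom A₀ L₀ M) (AlgHom.id A₀ B₀)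
      have hj : Function.Injective j := by
        have h1 : ∀ z : L₀ ⊗[A₀] B₀, j z = (Algebra.TensorProduct.cancelBaseChange A₀ L₀ M M B₀) ((1 : M) ⊗ₜ[L₀] z) := fun z => by
          induction z using TensorProduct.induction_on with
          | zero => simp
          | add a b ha hb => rw [map_add, TensorProduct.tmul_add, map_add, ha, hb]
          | tmul c b => simp [j, Algebra.smul_def]
        intro x y hxy
        rw [h1, h1] at hxy
        exact Algebra.TensorProduct.includeRight_injective (R := L₀) (A := M) (B := L₀ ⊗[A₀] B₀) i₂.injective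
          ((Algebra.TensorProduct.cancelBaseChange A₀ L₀ M M B₀).injective hxy)
      exact isReduced_of_injective j hj
    · intro h L _ _ hL
      letI : Algebra A₀ L := ((algebraMap A L).comp (algebraMap A₀ A)).toAlgebra
      haveI : IsScalarTower A₀ A L := .of_algebraMap_eq fun _ => rfl
      haveI := h L fun a => hL _
      obtain ⟨g⟩ := nonempty_fibre_equiv e L
      exact isReduced_of_injective _ g.injective
  · by_cases hgr : GeomRedAt B₀ p₀.asIdeal
    · obtain ⟨r, hr, H⟩ := exists_isReduced (R := A₀ ⧸ p₀.asIdeal) (B := (A₀ ⧸ p₀.asIdeal) ⊗[A₀] B₀)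
        p₀.asIdeal.ResidueField fun L _ _ => by
        letI : Algebra A₀ L := ((algebraMap p₀.asIdeal.ResidueField L).comp (algebraMap A₀ p₀.asIdeal.ResidueField)).toAlgebra
        haveI : IsScalarTower A₀ p₀.asIdeal.ResidueField L := .of_algebraMap_eq fun _ => rfl
        haveI := hgr L fun a => by
          rw [IsScalarTower.algebraMap_apply A₀ p₀.asIdeal.ResidueField L, map_eq_zero, Ideal.algebraMap_residueField_eq_zero]
        haveI : IsReduced (L ⊗[p₀.asIdeal.ResidueField] (p₀.asIdeal.ResidueField ⊗[A₀] B₀)) := isReduced_of_injective _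
          (Algebra.TensorProduct.cancelBaseChange A₀ p₀.asIdeal.ResidueField L L B₀).injective
        exact isReduced_of_injective _ (Algebra.TensorProduct.congr (AlgEquiv.refl : L ≃ₐ[p₀.asIdeal.ResidueField] L)
          (Algebra.TensorProduct.cancelBaseChange A₀ (A₀ ⧸ p₀.asIdeal) p₀.asIdeal.ResidueField p₀.asIdeal.ResidueField B₀)).injective
      obtain ⟨r, rfl⟩ := Ideal.Quotient.mk_surjective r
      refine ⟨r, fun h => hr (Ideal.Quotient.eq_zero_iff_mem.2 h), fun p hp hrp => iff_of_true ?_ hgr⟩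
      intro L _ _ hL
      letI : Algebra (A₀ ⧸ p₀.asIdeal) L := (Ideal.Quotient.lift p₀.asIdeal (algebraMap A₀ L)
        fun a ha => (hL a).2 (hp ha)).toAlgebra
      haveI : IsScalarTower A₀ (A₀ ⧸ p₀.asIdeal) L := .of_algebraMap_eq fun _ => rfl
      haveI := H L (fun h0 => hrp ((hL r).1 h0))
      exact isReduced_of_injective _ (Algebra.TensorProduct.cancelBaseChange A₀ (A₀ ⧸ p₀.asIdeal) L L B₀).symm.injective
    · obtain ⟨L, i1, i2, hL, hnr⟩ : ∃ (L : Type u) (_ : Field L) (_ : Algebra A₀ L),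
          (∀ a : A₀, algebraMap A₀ L a = 0 ↔ a ∈ p₀.asIdeal) ∧ ¬ IsReduced (L ⊗[A₀] B₀) := by
        simpa [GeomRedAt] using hgr
      letI : Algebra (A₀ ⧸ p₀.asIdeal) L := (Ideal.Quotient.lift p₀.asIdeal (algebraMap A₀ L)
        fun a ha => (hL a).2 ha).toAlgebra
      haveI : IsScalarTower A₀ (A₀ ⧸ p₀.asIdeal) L := .of_algebraMap_eq fun _ => rfl
      obtain ⟨r, hr, H⟩ := exists_not_isReduced_ext (R := A₀ ⧸ p₀.asIdeal) (B := (A₀ ⧸ p₀.asIdeal) ⊗[A₀] B₀) L
        ((injective_iff_map_eq_zero (algebraMap (A₀ ⧸ p₀.asIdeal) L)).2 fun a ha => by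
          obtain ⟨a, rfl⟩ := Ideal.Quotient.mk_surjective a
          exact Ideal.Quotient.eq_zero_iff_mem.2 ((hL a).1 ha))
        fun hh => hnr (isReduced_of_injective _
          (Algebra.TensorProduct.cancelBaseChange A₀ (A₀ ⧸ p₀.asIdeal) L L B₀).symm.injective)
      obtain ⟨r, rfl⟩ := Ideal.Quotient.mk_surjective r
      refine ⟨r, fun h => hr (Ideal.Quotient.eq_zero_iff_mem.2 h), fun p hp hrp => iff_of_false (fun hpE => ?_) hgr⟩
      haveI : (p.asIdeal.map (Ideal.Quotient.mk p₀.asIdeal)).IsPrime :=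
        Ideal.map_isPrime_of_surjective Ideal.Quotient.mk_surjective (by rwa [Ideal.mk_ker])
      have hc : (p.asIdeal.map (Ideal.Quotient.mk p₀.asIdeal)).comap (Ideal.Quotient.mk p₀.asIdeal) = p.asIdeal := by
        rw [Ideal.comap_map_of_surjective _ Ideal.Quotient.mk_surjective, ← RingHom.ker_eq_comap_bot, Ideal.mk_ker]
        exact sup_eq_left.2 hp
      obtain ⟨κ', j1, j2, j3, j4, hnr'⟩ := H (p.asIdeal.map (Ideal.Quotient.mk p₀.asIdeal)) fun hh => hrp (hc.le hh)
      letI : Algebra A₀ κ' := ((algebraMap (A₀ ⧸ p₀.asIdeal) κ').comp (Ideal.Quotient.mk p₀.asIdeal)).toAlgebra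
      haveI : IsScalarTower A₀ (A₀ ⧸ p₀.asIdeal) κ' := .of_algebraMap_eq fun _ => rfl
      haveI := hpE κ' fun a => by
        show algebraMap (A₀ ⧸ p₀.asIdeal) κ' (Ideal.Quotient.mk p₀.asIdeal a) = 0 ↔ _
        rw [IsScalarTower.algebraMap_apply (A₀ ⧸ p₀.asIdeal) (p.asIdeal.map (Ideal.Quotient.mk p₀.asIdeal)).ResidueField κ',
          map_eq_zero, Ideal.algebraMap_residueField_eq_zero]
        exact (Ideal.mem_comap.symm).trans (Iff.of_eq (congrArg (a ∈ ·) hc))
      exact hnr' (isReduced_of_injective _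
        (Algebra.TensorProduct.cancelBaseChange A₀ (A₀ ⧸ p₀.asIdeal) κ' κ' B₀).injective)

end Groth.Agent.NearGen
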