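import Mathlib
import Groth.Agent.NearGen.GeomRed

/-!
# Geometrically reduced fibres near a geometrically reduced generic fibre
-/

set_option autoImplicit false
set_option linter.style.haveILetI false

universe u

open CategoryTheory CategoryTheory.Limits AlgebraicGeometry TensorProduct

namespace Groth.Agent.NearGen

variable {X Y : Scheme.{u}} (f : X ⟶ Y)

set_option backward.isDefEq.respectTransparency.types false in
/-- Geometrically reduced fibres over an open give a geometrically reduced restriction. -/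
theorem geometricallyReduced_restrict (V : Y.Opens)
    (h : ∀ y ∈ V, GeometricallyReduced (f.fiberToSpecResidueField y)) : GeometricallyReduced (f ∣_ V) := by
  refine ⟨fun L _ z Z fst snd hZ => ?_⟩
  have hZ' : IsPullback (fst ≫ (f ⁻¹ᵁ V).ι) snd f (z ≫ V.ι) := hZ.paste_horiz (isPullback_morphismRestrict f V).flip
  generalize hw : z ≫ V.ι = w at hZ'
  obtain ⟨⟨y, φ⟩, rfl⟩ := (Scheme.SpecToEquivOfField _ _).symm.surjective w
  have hy : y ∈ V := by
    let c : Spec (CommRingCat.of L) := IsLocalRing.closedPoint L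
    have h1 : V.ι (z c) = Y.fromSpecResidueField y (Spec.map φ c) := by
      rw [← Scheme.Hom.comp_apply, ← Scheme.Hom.comp_apply, hw]
      rfl
    rw [Scheme.fromSpecResidueField_apply] at h1
    exact h1 ▸ (z c).2
  haveI : IsReduced (pullback f (Spec.map φ ≫ Y.fromSpecResidueField y)) := by
    haveI : IsReduced (pullback (pullback.snd f (Y.fromSpecResidueField y)) (Spec.map φ)) :=
      pullback_of_geometrically (P := IsReduced) (h y hy).geometrically_isReduced L _
    exact isReduced_of_isOpenImmersion (pullbackLeftPullbackSndIso f (Y.fromSpecResidueField y) (Spec.map φ)).inv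
  haveI : IsReduced (pullback f ((Scheme.SpecToEquivOfField L Y).symm ⟨y, φ⟩)) := this
  exact isReduced_of_isOpenImmersion hZ'.isoPullback.hom

variable [IrreducibleSpace Y] [LocallyOfFiniteType f]

set_option backward.isDefEq.respectTransparency.types false in
/-- Geometric reducedness of the fibres spreads from the generic one. -/
theorem exists_geometricallyReduced_fiber [QuasiCompact f]
    (h : GeometricallyReduced (f.fiberToSpecResidueField (genericPoint Y))) :
    ∃ V : Y.Opens, genericPoint Y ∈ V ∧ ∀ y ∈ V, GeometricallyReduced (f.fiberToSpecResidueField y) := by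
  classical
  obtain ⟨U, hU, hη, -⟩ := exists_isAffineOpen_mem_and_subset (X := Y) (x := genericPoint Y) (U := ⊤) trivial
  obtain ⟨p₀, hp₀, hmin⟩ := exists_generic_prime hU hη
  obtain ⟨s, hs, hcov⟩ := exists_affines f hU
  rw [← hp₀] at h
  have key : ∀ W : s, letI := (f.appLE U W.1 (hs W.1 W.2).2).hom.toAlgebra
      ∃ r : Γ(Y, U), r ∉ p₀.asIdeal ∧ ∀ (p : Ideal Γ(Y, U)) [p.IsPrime], r ∉ p →
        ∀ (L : Type u) [Field L] [Algebra p.ResidueField L], _root_.IsReduced (L ⊗[p.ResidueField] (p.ResidueField ⊗[Γ(Y, U)] Γ(X, W.1))) := by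
    intro W
    letI := (f.appLE U W.1 (hs W.1 W.2).2).hom.toAlgebra
    haveI : Algebra.FiniteType Γ(Y, U) Γ(X, W.1) := finiteType_appLE f hU (hs W.1 W.2).1 (hs W.1 W.2).2
    obtain ⟨j, θ, hj, hθ, -, -, hπ⟩ := exists_fibre_chart f hU (hs W.1 W.2).1 (hs W.1 W.2).2 p₀
    have hW := geometricallyReduced_chart (f.fiberToSpecResidueField (hU.fromSpec p₀)) j
    rw [hπ, MorphismProperty.cancel_right_of_respectsIso @GeometricallyReduced, geometricallyReduced_Spec_iff] at hW
    obtain ⟨r, hr, H⟩ := exists_isReduced (R := Γ(Y, U) ⧸ p₀.asIdeal)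
      (B := (Γ(Y, U) ⧸ p₀.asIdeal) ⊗[Γ(Y, U)] Γ(X, W.1)) p₀.asIdeal.ResidueField fun L _ _ => by
      haveI := hW L
      exact isReduced_of_injective _ (Algebra.TensorProduct.congr (AlgEquiv.refl : L ≃ₐ[p₀.asIdeal.ResidueField] L)
        (Algebra.TensorProduct.cancelBaseChange Γ(Y, U) (Γ(Y, U) ⧸ p₀.asIdeal) p₀.asIdeal.ResidueField
          p₀.asIdeal.ResidueField Γ(X, W.1))).injective
    obtain ⟨r, rfl⟩ := Ideal.Quotient.mk_surjective r
    refine ⟨r, fun hr0 => hr (Ideal.Quotient.eq_zero_iff_mem.2 hr0), fun p _ hp L _ _ => ?_⟩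
    letI : Algebra Γ(Y, U) L := ((algebraMap p.ResidueField L).comp (algebraMap Γ(Y, U) p.ResidueField)).toAlgebra
    haveI : IsScalarTower Γ(Y, U) p.ResidueField L := .of_algebraMap_eq fun _ => rfl
    letI : Algebra (Γ(Y, U) ⧸ p₀.asIdeal) L := (Ideal.Quotient.lift p₀.asIdeal (algebraMap Γ(Y, U) L) fun a ha => by
      rw [IsScalarTower.algebraMap_apply Γ(Y, U) p.ResidueField L, map_eq_zero, Ideal.algebraMap_residueField_eq_zero]
      exact hmin p inferInstance ha).toAlgebra
    haveI : IsScalarTower Γ(Y, U) (Γ(Y, U) ⧸ p₀.asIdeal) L := .of_algebraMap_eq fun _ => rfl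
    haveI := H L (by
      show algebraMap Γ(Y, U) L r ≠ 0
      rw [IsScalarTower.algebraMap_apply Γ(Y, U) p.ResidueField L, Ne, map_eq_zero, Ideal.algebraMap_residueField_eq_zero]
      exact hp)
    exact isReduced_of_injective _ ((Algebra.TensorProduct.cancelBaseChange Γ(Y, U) p.ResidueField L L Γ(X, W.1)).trans
      (Algebra.TensorProduct.cancelBaseChange Γ(Y, U) (Γ(Y, U) ⧸ p₀.asIdeal) L L Γ(X, W.1)).symm).injective
  choose r hr H using key
  have hηmem : genericPoint Y ∈ Y.basicOpen (∏ W : s, r W) := hp₀ ▸ (mem_basicOpen_iff hU p₀ _).2 fun hh => by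
    obtain ⟨W, -, hW⟩ := p₀.isPrime.prod_mem_iff.1 hh
    exact hr W hW
  refine ⟨_, hηmem, fun y hy => ?_⟩
  obtain ⟨p, rfl⟩ := hU.range_fromSpec.ge (Y.basicOpen_le _ hy)
  choose j θ hj hθ hjr _ hπ using fun W : s => exists_fibre_chart f hU (hs W.1 W.2).1 (hs W.1 W.2).2 p
  refine geometricallyReduced_of_charts _ _ j hj (fun z => ?_) fun W => ?_
  · obtain ⟨W, hW⟩ := exists_mem_range_chart f hU p hcov z
    exact ⟨W, (hjr W).ge hW⟩
  · letI := (f.appLE U W.1 (hs W.1 W.2).2).hom.toAlgebra
    haveI := hθ W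
    rw [hπ W, MorphismProperty.cancel_right_of_respectsIso @GeometricallyReduced, geometricallyReduced_Spec_iff]
    intro L _ _
    exact H W p.asIdeal (fun hh => (mem_basicOpen_iff hU p _).1 hy (Ideal.prod_mem _ (Finset.mem_univ W) hh)) L

end Groth.Agent.NearGen
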