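import Mathlib
import Groth.Agent.NearGen.Constr
import Groth.Agent.NearGen.GeomRedFibre

/-!
# Constructibility of fibre properties of finitely presented morphisms
-/

set_option autoImplicit false
set_option linter.style.haveILetI false

universe u

open CategoryTheory CategoryTheory.Limits AlgebraicGeometry TensorProduct Topology

namespace Groth.Agent.NearGen

variable {X Y : Scheme.{u}} (f : X ⟶ Y)

theorem isLocallyConstructible_of_affine (E : Set Y)
    (h : ∀ (U : Y.Opens) (hU : IsAffineOpen U), IsConstructible (hU.fromSpec ⁻¹' E)) : IsLocallyConstructible E := by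
  intro y
  obtain ⟨U, hU, hy, -⟩ := exists_isAffineOpen_mem_and_subset (X := Y) (x := y) (U := ⊤) trivial
  refine ⟨U, U.2.mem_nhds hy, U.2, ?_⟩
  have h1 := (h U hU).preimage_of_isOpenEmbedding hU.isoSpec.hom.isOpenEmbedding
  have heq : (Subtype.val ⁻¹' E : Set U) = hU.isoSpec.hom ⁻¹' (hU.fromSpec ⁻¹' E) := Set.ext fun x => by
    show x.1 ∈ E ↔ hU.fromSpec (hU.isoSpec.hom x) ∈ E
    rw [← Scheme.Hom.comp_apply, hU.isoSpec_hom_fromSpec]
    rfl
  exact (congrArg (IsConstructible (X := U)) heq).mpr h1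

set_option backward.isDefEq.respectTransparency.types false in
/-- The geometrically reduced fibre locus is locally constructible. -/
theorem isLocallyConstructible_geometricallyReduced [QuasiCompact f] [LocallyOfFinitePresentation f] :
    IsLocallyConstructible {y : Y | GeometricallyReduced (f.fiberToSpecResidueField y)} := by
  refine isLocallyConstructible_of_affine _ fun U hU => ?_
  obtain ⟨s, hs, hcov⟩ := exists_affines f hU
  have hW : ∀ W : s, letI := (f.appLE U W.1 (hs W.1 W.2).2).hom.toAlgebra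
      IsConstructible {p : PrimeSpectrum Γ(Y, U) | GeomRedAt Γ(X, W.1) p.asIdeal} := fun W => by
    letI := (f.appLE U W.1 (hs W.1 W.2).2).hom.toAlgebra
    haveI : Algebra.FinitePresentation Γ(Y, U) Γ(X, W.1) := f.finitePresentation_appLE hU (hs W.1 W.2).1 (hs W.1 W.2).2
    exact isConstructible_geomRedAt
  refine (Set.ext fun p => ?_ : hU.fromSpec ⁻¹' {y : Y | GeometricallyReduced (f.fiberToSpecResidueField y)} = _) ▸
    IsConstructible.iInter hW
  refine Iff.trans ?_ Set.mem_iInter.symm
  show GeometricallyReduced (f.fiberToSpecResidueField (hU.fromSpec p)) ↔ _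
  choose j θ hj hθ hjr _ hπ using fun W : s => exists_fibre_chart f hU (hs W.1 W.2).1 (hs W.1 W.2).2 p
  constructor
  · intro h W
    letI := (f.appLE U W.1 (hs W.1 W.2).2).hom.toAlgebra
    haveI := hθ W
    haveI := hj W
    have h1 := geometricallyReduced_chart (f.fiberToSpecResidueField (hU.fromSpec p)) (j W)
    rw [hπ W, MorphismProperty.cancel_right_of_respectsIso @GeometricallyReduced, geometricallyReduced_Spec_iff] at h1
    intro L _ _ hL
    let ψ : p.asIdeal.ResidueField →+* L := Ideal.ResidueField.lift p.asIdeal (algebraMap Γ(Y, U) L)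
      (fun a ha => (hL a).2 ha) (fun a ha => Ne.isUnit fun h0 => ha ((hL a).1 h0))
    letI : Algebra p.asIdeal.ResidueField L := ψ.toAlgebra
    haveI : IsScalarTower Γ(Y, U) p.asIdeal.ResidueField L :=
      .of_algebraMap_eq fun a => (Ideal.ResidueField.lift_algebraMap ..).symm
    haveI := h1 L
    exact isReduced_of_injective _
      (Algebra.TensorProduct.cancelBaseChange Γ(Y, U) p.asIdeal.ResidueField L L Γ(X, W.1)).symm.injective
  · intro h
    refine geometricallyReduced_of_charts _ _ j hj (fun z => ?_) fun W => ?_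
    · obtain ⟨W, hW⟩ := exists_mem_range_chart f hU p hcov z
      exact ⟨W, (hjr W).ge hW⟩
    · letI := (f.appLE U W.1 (hs W.1 W.2).2).hom.toAlgebra
      haveI := hθ W
      rw [hπ W, MorphismProperty.cancel_right_of_respectsIso @GeometricallyReduced, geometricallyReduced_Spec_iff]
      intro L _ _
      letI : Algebra Γ(Y, U) L := ((algebraMap p.asIdeal.ResidueField L).comp (algebraMap Γ(Y, U) p.asIdeal.ResidueField)).toAlgebra
      haveI : IsScalarTower Γ(Y, U) p.asIdeal.ResidueField L := .of_algebraMap_eq fun _ => rfl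
      haveI := h W L fun a => by
        rw [IsScalarTower.algebraMap_apply Γ(Y, U) p.asIdeal.ResidueField L, map_eq_zero, Ideal.algebraMap_residueField_eq_zero]
      exact isReduced_of_injective _
        (Algebra.TensorProduct.cancelBaseChange Γ(Y, U) p.asIdeal.ResidueField L L Γ(X, W.1)).injective

/-- The level sets of the fibre dimension are locally constructible. -/
theorem isLocallyConstructible_fibreDim [QuasiCompact f] [LocallyOfFinitePresentation f] (n : WithBot ℕ∞) :
    IsLocallyConstructible {y : Y | topologicalKrullDim (f.fiber y) = n} := by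
  classical
  refine isLocallyConstructible_of_affine _ fun U hU => ?_
  obtain ⟨s, hs, hcov⟩ := exists_affines f hU
  let D : s → PrimeSpectrum Γ(Y, U) → WithBot ℕ∞ := fun W p =>
    letI := (f.appLE U W.1 (hs W.1 W.2).2).hom.toAlgebra
    ringKrullDim (p.asIdeal.ResidueField ⊗[Γ(Y, U)] Γ(X, W.1))
  have hD : ∀ p : PrimeSpectrum Γ(Y, U), topologicalKrullDim (f.fiber (hU.fromSpec p)) = ⨆ W : s, D W p := by
    intro p
    rw [(f.fiberHomeo _).isHomeomorph.topologicalKrullDim_eq,
      topologicalKrullDim_eq_iSup_of_cover (fun W : s => Subtype.val ⁻¹' (W.1 : Set X))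
        (fun W => W.1.2.preimage continuous_subtype_val) (fun x => by
          obtain ⟨W, hW, hxW⟩ := hcov x.1 (by
            rw [show f x.1 = hU.fromSpec p from x.2]; exact hU.range_fromSpec.le ⟨_, rfl⟩)
          exact ⟨⟨W, hW⟩, hxW⟩)]
    refine iSup_congr fun W => ?_
    show _ = ringKrullDim _
    rw [← topologicalKrullDim_fibre_chart f hU (hs W.1 W.2).1 (hs W.1 W.2).2 p]
    have hr' : Set.range (fun x : (Subtype.val ⁻¹' (W.1 : Set X) : Set ↥(f ⁻¹' {hU.fromSpec p})) => x.1.1) =
        (W.1 : Set X) ∩ f ⁻¹' {hU.fromSpec p} :=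
      Set.ext fun x => ⟨by rintro ⟨z, rfl⟩; exact ⟨z.2, z.1.2⟩, fun hx => ⟨⟨⟨x, hx.2⟩, hx.1⟩, rfl⟩⟩
    rw [← hr']
    exact ((Topology.IsEmbedding.subtypeVal.comp Topology.IsEmbedding.subtypeVal).toHomeomorph).isHomeomorph.topologicalKrullDim_eq
  have hQ : ∀ (W : s) (Q : WithBot ℕ∞ → Prop), IsConstructible {p | Q (D W p)} := fun W Q => by
    letI := (f.appLE U W.1 (hs W.1 W.2).2).hom.toAlgebra
    haveI : Algebra.FinitePresentation Γ(Y, U) Γ(X, W.1) := f.finitePresentation_appLE hU (hs W.1 W.2).1 (hs W.1 W.2).2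
    exact isConstructible_ringKrullDim Q
  have hset : hU.fromSpec ⁻¹' {y : Y | topologicalKrullDim (f.fiber y) = n} =
      (⋂ W : s, {p | D W p ≤ n}) ∩ (⋂ W : s, {p | D W p < n})ᶜ ∪
      {p | n = ⊥ ∧ ∀ W : s, D W p = ⊥} := by
    refine Set.ext fun (p : PrimeSpectrum Γ(Y, U)) => ?_
    show topologicalKrullDim (f.fiber (hU.fromSpec p)) = n ↔ _
    rw [hD p]
    refine Iff.trans ?_ (Iff.symm (Iff.trans (Set.mem_union ..) (or_congr (and_congr Set.mem_iInter (not_congr Set.mem_iInter)) Iff.rfl)))
    constructor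
    · intro h
      rcases eq_or_ne n ⊥ with hn | hn
      · exact Or.inr ⟨hn, fun W => le_bot_iff.1 ((le_iSup (D · p) W).trans (h.le.trans hn.le))⟩
      · refine Or.inl ⟨fun W => (le_iSup (D · p) W).trans h.le, fun hlt => ?_⟩
        have : (⨆ W : s, D W p) < n := by
          rw [← Finset.sup_univ_eq_iSup, Finset.sup_lt_iff (bot_lt_iff_ne_bot.2 hn)]
          exact fun W _ => hlt W
        exact this.ne h
    · rintro (⟨h1, h2⟩ | ⟨hn, h1⟩)
      · refine le_antisymm (iSup_le h1) ?_
        by_contra h3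
        exact h2 fun W => (le_iSup (D · p) W).trans_lt (not_le.1 h3)
      · rw [hn]
        exact le_bot_iff.1 (iSup_le fun W => (h1 W).le)
  rw [hset]
  refine ((IsConstructible.iInter fun W => hQ W (· ≤ n)).inter (IsConstructible.iInter fun W => hQ W (· < n)).compl).union ?_
  by_cases hn : n = ⊥
  · refine (Set.ext fun p => ?_ : {p : PrimeSpectrum Γ(Y, U) | n = ⊥ ∧ ∀ W : s, D W p = ⊥} = ⋂ W : s, {p | D W p = ⊥}) ▸
      IsConstructible.iInter fun W => hQ W (· = ⊥)
    exact (and_iff_right hn).trans (Set.mem_iInter (s := fun W : s => {p : PrimeSpectrum Γ(Y, U) | D W p = ⊥})).symm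
  · refine (Set.ext fun p => ?_ : {p : PrimeSpectrum Γ(Y, U) | n = ⊥ ∧ ∀ W : s, D W p = ⊥} = ∅) ▸
      (IsConstructible.empty : IsConstructible (∅ : Set (PrimeSpectrum Γ(Y, U))))
    exact iff_of_false (fun h => hn h.1) id

end Groth.Agent.NearGen
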