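import Mathlib
import Groth.Agent.NearGen.GeomRedFibre

/-!
# Density of the smooth locus for a separable function field extension
-/

set_option autoImplicit false
set_option linter.style.haveILetI false

universe u

open CategoryTheory CategoryTheory.Limits AlgebraicGeometry TensorProduct

namespace Groth.Agent.NearGen

theorem bot_mem_smoothLocus {A C : Type u} [CommRing A] [IsDomain A] [CommRing C] [IsDomain C] [Algebra A C]
    [Algebra.FinitePresentation A C] (hinj : Function.Injective (algebraMap A C)) (K : Type u) [Field K] [Algebra A K]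
    [IsFractionRing A K] (h : ∀ (L : Type u) [Field L] [Algebra K L], _root_.IsReduced (L ⊗[K] (K ⊗[A] C))) :
    (⊥ : PrimeSpectrum C) ∈ Algebra.smoothLocus A C := by
  obtain ⟨g, hreg, hsm⟩ := exists_regular_smooth K h
  haveI : Nontrivial (K ⊗[A] C) :=
    ⟨⟨1, 0, fun h1 => one_ne_zero (α := C) (by
      obtain ⟨⟨a, ha⟩, hac⟩ := (IsLocalizedModule.eq_zero_iff (nonZeroDivisors A) (TensorProduct.mk A K C 1) (m := (1 : C))).1 h1
      have h2 : algebraMap A C a = 0 := by rw [Algebra.algebraMap_eq_smul_one]; exact hac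
      exact absurd h2 ((map_ne_zero_iff _ hinj).2 (nonZeroDivisors.ne_zero ha)))⟩⟩
  have hg0 : g ≠ 0 := fun h0 => zero_notMem_nonZeroDivisors (M₀ := K ⊗[A] C) (by
    simpa only [h0, TensorProduct.tmul_zero] using hreg)
  letI : Algebra C (K ⊗[A] C) := Algebra.TensorProduct.rightAlgebra
  haveI : IsLocalization (Algebra.algebraMapSubmonoid C (nonZeroDivisors A)) (K ⊗[A] C) := inferInstance
  obtain ⟨a, ha, hsm'⟩ := exists_smooth_away (A := A) (C := C) K (K ⊗[A] C) g hsm
  refine Algebra.basicOpen_subset_smoothLocus_iff_smooth.2 hsm' ?_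
  show algebraMap A C a * g ∉ (⊥ : PrimeSpectrum C).asIdeal
  exact fun hh => mul_ne_zero ((map_ne_zero_iff _ hinj).2 ha) hg0 (Ideal.mem_bot.1 hh)

set_option backward.isDefEq.respectTransparency.types false in
/-- The smooth locus is dense when the generic fibre is geometrically reduced. -/
theorem dense_smoothLocus {X Y : Scheme.{u}} [IsIntegral X] [IsIntegral Y] (f : X ⟶ Y) [IsDominant f]
    [LocallyOfFinitePresentation f] (hsep : GeometricallyReduced (f.fiberToSpecResidueField (f (genericPoint X)))) :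
    Dense (f.smoothLocus : Set X) := by
  suffices h : genericPoint X ∈ f.smoothLocus by
    rw [dense_iff_closure_eq, Set.eq_univ_iff_forall]
    exact fun x => ((genericPoint_spec X).specializes (Set.mem_univ x)).mem_closed isClosed_closure (subset_closure h)
  obtain ⟨U, hU, hξU, -⟩ := exists_isAffineOpen_mem_and_subset (X := Y) (x := f (genericPoint X)) (U := ⊤) trivial
  obtain ⟨V, hV, hξV, hVU⟩ := exists_isAffineOpen_mem_and_subset (X := X) (x := genericPoint X) (U := f ⁻¹ᵁ U) hξU
  haveI : Nonempty U := ⟨⟨_, hξU⟩⟩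
  haveI : Nonempty V := ⟨⟨_, hξV⟩⟩
  haveI := f.finitePresentation_appLE hU hV hVU
  have hfp := f.finitePresentation_appLE hU hV hVU
  algebraize [(f.appLE U V hVU).hom]
  have hq : hV.primeIdealOf ⟨genericPoint X, hξV⟩ = (⊥ : PrimeSpectrum Γ(X, V)) := by
    rw [hV.primeIdealOf_genericPoint, genericPoint_eq_bot_of_affine]
  have hinj : Function.Injective (algebraMap Γ(Y, U) Γ(X, V)) := by
    refine (RingHom.injective_iff_ker_eq_bot _).2 ?_
    have hp := IsAffineOpen.comap_primeIdealOf_appLE U hU V hV hVU hξV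
    have hη : f (genericPoint X) = genericPoint Y :=
      (((genericPoint_spec X).image f.continuous).eq (by
        rw [Set.image_univ, f.denseRange.closure_eq]; exact genericPoint_spec Y))
    rw [hq] at hp
    have : hU.primeIdealOf ⟨f (genericPoint X), hξU⟩ = (⊥ : PrimeSpectrum Γ(Y, U)) := by
      rw [show (⟨f (genericPoint X), hξU⟩ : U) = ⟨genericPoint Y, hη ▸ hξU⟩ from Subtype.ext hη,
        hU.primeIdealOf_genericPoint, genericPoint_eq_bot_of_affine]
    rw [RingHom.ker_eq_comap_bot]
    exact (congrArg PrimeSpectrum.asIdeal (hp.trans this))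
  rw [Scheme.Hom.mem_smoothLocus, formallySmooth_stalkMap_iff U hU V hV hVU hξV, hq]
  let p₀ : PrimeSpectrum Γ(Y, U) := ⊥
  haveI : IsFractionRing Γ(Y, U) p₀.asIdeal.ResidueField :=
    inferInstanceAs (IsFractionRing Γ(Y, U) (⊥ : Ideal Γ(Y, U)).ResidueField)
  refine bot_mem_smoothLocus hinj p₀.asIdeal.ResidueField ?_
  have hpt : hU.fromSpec p₀ = f (genericPoint X) := by
    have h1 : hU.primeIdealOf ⟨f (genericPoint X), hξU⟩ = p₀ := by
      refine PrimeSpectrum.ext ?_
      have hp := IsAffineOpen.comap_primeIdealOf_appLE U hU V hV hVU hξV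
      rw [hq] at hp
      rw [← hp]
      exact (RingHom.ker_eq_comap_bot _).symm.trans ((RingHom.injective_iff_ker_eq_bot _).1 hinj)
    rw [← h1, IsAffineOpen.fromSpec_primeIdealOf]
  rw [← hpt] at hsep
  obtain ⟨j, θ, hj, hθ, -, -, hπ⟩ := exists_fibre_chart f hU hV hVU p₀
  have hW := geometricallyReduced_chart (f.fiberToSpecResidueField (hU.fromSpec p₀)) j
  rw [hπ, MorphismProperty.cancel_right_of_respectsIso @GeometricallyReduced, geometricallyReduced_Spec_iff] at hW
  exact hW

end Groth.Agent.NearGen
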