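import Mathlib
import Groth.Agent.NearGen.FibreScheme

/-!
# Scheme theoretic density in the fibres near the generic one
-/

set_option autoImplicit false
set_option linter.style.haveILetI false

universe u

open CategoryTheory CategoryTheory.Limits AlgebraicGeometry TensorProduct

namespace Groth.Agent.NearGen

set_option backward.isDefEq.respectTransparency.types false in
theorem isSchemeTheoreticallyDominant_away {A : Type u} [CommRing A] (a : A) (ha : a ∈ nonZeroDivisors A) :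
    IsSchemeTheoreticallyDominant (Spec.map (CommRingCat.ofHom (algebraMap A (Localization.Away a)))) := by
  rw [isSchemeTheoreticallyDominant_iff, Scheme.ker_of_isAffine]
  have hinj : Function.Injective (Spec.map (CommRingCat.ofHom (algebraMap A (Localization.Away a)))).appTop := by
    have h1 := Scheme.ΓSpecIso_inv_naturality (CommRingCat.ofHom (algebraMap A (Localization.Away a)))
    intro x y hxy
    obtain ⟨x, rfl⟩ := (ConcreteCategory.bijective_of_isIso (Scheme.ΓSpecIso (CommRingCat.of A)).inv).2 x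
    obtain ⟨y, rfl⟩ := (ConcreteCategory.bijective_of_isIso (Scheme.ΓSpecIso (CommRingCat.of A)).inv).2 y
    simp only [← ConcreteCategory.comp_apply, ← h1] at hxy
    exact congrArg _ (IsLocalization.injective (Localization.Away a)
      (Submonoid.powers_le.2 ha) ((ConcreteCategory.bijective_of_isIso (Scheme.ΓSpecIso _).inv).1 hxy))
  rw [(RingHom.injective_iff_ker_eq_bot _).1 hinj]
  exact Scheme.IdealSheafData.ext_of_isAffine (by simp [Scheme.IdealSheafData.ofIdealTop])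

set_option backward.isDefEq.respectTransparency.types false in
/-- An open is dense as soon as it contains regular basic opens of charts. -/
theorem isSchemeTheoreticallyDominant_of_charts {T : Scheme.{u}} (V : T.Opens) {ι : Type u} (A : ι → CommRingCat.{u})
    (j : ∀ i, Spec (A i) ⟶ T) (hj : ∀ i, IsOpenImmersion (j i)) (hcov : ∀ x, ∃ i, x ∈ Set.range (j i))
    (h : ∀ i, ∃ a : A i, a ∈ nonZeroDivisors (A i) ∧ ∀ q : PrimeSpectrum (A i), a ∉ q.asIdeal → j i q ∈ V) :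
    IsSchemeTheoreticallyDominant V.ι := by
  haveI : ∀ i, IsOpenImmersion (j i) := hj
  let 𝒰 : T.OpenCover := Scheme.Cover.mkOfCovers ι (fun i => Spec (A i)) j
    (fun x => (hcov x).imp fun i hi => hi) inferInstance
  rw [isSchemeTheoreticallyDominant_iff, ← le_bot_iff,
    ← show (𝟙 T : T ⟶ T).ker = ⊥ from Scheme.Hom.ker_eq_bot_of_isIso _, ← Scheme.Hom.iInf_ker_openCover_map_comp (𝟙 T) 𝒰]
  refine le_iInf fun i => ?_
  obtain ⟨a, ha, hV⟩ := h i
  haveI := isSchemeTheoreticallyDominant_away a ha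
  let m := Spec.map (CommRingCat.ofHom (algebraMap (A i) (Localization.Away a)))
  have hr : Set.range (m ≫ j i) ⊆ Set.range V.ι := by
    rintro _ ⟨q, rfl⟩
    rw [Scheme.Opens.range_ι]
    refine hV _ ?_
    exact (PrimeSpectrum.localization_away_comap_range (Localization.Away a) a).le ⟨q, rfl⟩
  calc V.ι.ker ≤ (IsOpenImmersion.lift V.ι (m ≫ j i) hr ≫ V.ι).ker := Scheme.Hom.le_ker_comp _ _
    _ = (m ≫ j i).ker := by rw [IsOpenImmersion.lift_fac]
    _ = (j i).ker := by rw [Scheme.Hom.ker_comp, m.ker_eq_bot, Scheme.IdealSheafData.map_bot]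
    _ = (𝒰.f i ≫ 𝟙 T).ker := by rw [Category.comp_id]; rfl

theorem res_res_eq {T : Scheme.{u}} {A B B' C : T.Opens} (x : Γ(T, A)) (h1 : B ≤ A) (h2 : C ≤ B) (h1' : B' ≤ A) (h2' : C ≤ B') :
    T.presheaf.map (homOfLE h2).op (T.presheaf.map (homOfLE h1).op x) =
      T.presheaf.map (homOfLE h2').op (T.presheaf.map (homOfLE h1').op x) := by
  rw [← ConcreteCategory.comp_apply, ← ConcreteCategory.comp_apply, ← Functor.map_comp, ← Functor.map_comp]
  rfl

set_option backward.isDefEq.respectTransparency.types false in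
/-- In a chart of a scheme theoretically dense open, nothing is killed by its ideal. -/
theorem eq_zero_of_dominant {T : Scheme.{u}} [IsLocallyNoetherian T] (V : T.Opens) [IsSchemeTheoreticallyDominant V.ι]
    {A : CommRingCat.{u}} (j : Spec A ⟶ T) [IsOpenImmersion j] (s : Set A)
    (hs : ∀ q : PrimeSpectrum A, j q ∈ V → ∃ c ∈ s, c ∉ q.asIdeal) (a : A) (ha : ∀ c ∈ s, c * a = 0) : a = 0 := by
  haveI : QuasiCompact V.ι := inferInstance
  haveI : IsSchemeTheoreticallyDominant (j ⁻¹ᵁ V).ι :=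
    IsSchemeTheoreticallyDominant.of_isPullback (isPullback_morphismRestrict j V)
  haveI : QuasiCompact (j ⁻¹ᵁ V).ι := by
    haveI : IsLocallyNoetherian (Spec A) := isLocallyNoetherian_of_isOpenImmersion j
    infer_instance
  refine (ConcreteCategory.bijective_of_isIso (Scheme.ΓSpecIso A).inv).1 ?_
  rw [map_zero]
  refine (j ⁻¹ᵁ V).ι.app_injective ⊤ ?_
  rw [map_zero, Scheme.Opens.ι_app]
  refine (Spec A).IsSheaf.section_ext fun q hq => ?_
  have hqV : q ∈ j ⁻¹ᵁ V := by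
    obtain ⟨x, -, rfl⟩ := hq
    exact x.2
  obtain ⟨c, hc, hcq⟩ := hs q hqV
  let D : (Spec A).Opens := PrimeSpectrum.basicOpen c
  refine ⟨D ⊓ ((j ⁻¹ᵁ V).ι ''ᵁ ((j ⁻¹ᵁ V).ι ⁻¹ᵁ ⊤)), inf_le_right, ⟨hcq, hq⟩, ?_⟩
  refine Eq.trans ?_ (map_zero _).symm
  refine (res_res_eq ((Scheme.ΓSpecIso A).inv a) _ _ (le_top : D ≤ ⊤)
    (inf_le_left : D ⊓ ((j ⁻¹ᵁ V).ι ''ᵁ ((j ⁻¹ᵁ V).ι ⁻¹ᵁ ⊤)) ≤ D)).trans ?_
  have h1 : algebraMap A ((Spec A).presheaf.obj (.op D)) a = 0 := by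
    haveI := StructureSheaf.IsLocalization.to_basicOpen A c
    exact (IsLocalization.map_eq_zero_iff (Submonoid.powers c) ((Spec A).presheaf.obj (.op D)) a).2 ⟨⟨c, 1, pow_one c⟩, ha c hc⟩
  have h2 := congrArg ((Spec A).presheaf.map (homOfLE (inf_le_left :
    D ⊓ ((j ⁻¹ᵁ V).ι ''ᵁ ((j ⁻¹ᵁ V).ι ⁻¹ᵁ ⊤)) ≤ D)).op) h1
  rw [map_zero] at h2
  exact h2

variable {X Y : Scheme.{u}} (f : X ⟶ Y) [IrreducibleSpace Y] [LocallyOfFiniteType f]

/-- Scheme theoretic density on the fibres spreads from the generic one. -/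
theorem exists_isSchemeTheoreticallyDominant [QuasiCompact f] (O : X.Opens)
    (h : IsSchemeTheoreticallyDominant (f.fiberι (genericPoint Y) ⁻¹ᵁ O).ι) :
    ∃ V : Y.Opens, genericPoint Y ∈ V ∧ ∀ y ∈ V, IsSchemeTheoreticallyDominant (f.fiberι y ⁻¹ᵁ O).ι := by
  classical
  obtain ⟨U, hU, hη, -⟩ := exists_isAffineOpen_mem_and_subset (X := Y) (x := genericPoint Y) (U := ⊤) trivial
  obtain ⟨p₀, hp₀, hmin⟩ := exists_generic_prime hU hη
  obtain ⟨s, hs, hcov⟩ := exists_affines f hU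
  rw [← hp₀] at h
  haveI : IsLocallyNoetherian (f.fiber (hU.fromSpec p₀)) :=
    haveI : LocallyOfFiniteType (f.fiberToSpecResidueField (hU.fromSpec p₀)) := MorphismProperty.pullback_snd _ _ inferInstance
    LocallyOfFiniteType.isLocallyNoetherian (f.fiberToSpecResidueField _)
  let I := fun W : s => PrimeSpectrum.vanishingIdeal ({q : PrimeSpectrum Γ(X, W.1) | (hs W.1 W.2).1.fromSpec q ∈ O}ᶜ)
  have hI : ∀ (W : s) (b : Γ(X, W.1)) (q : PrimeSpectrum Γ(X, W.1)), b ∈ I W → b ∉ q.asIdeal → (hs W.1 W.2).1.fromSpec q ∈ O :=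
    fun W b q hb hq => by
      by_contra hO
      exact hq ((PrimeSpectrum.mem_vanishingIdeal _ _).1 hb q hO)
  have hI' : ∀ (W : s) (q : PrimeSpectrum Γ(X, W.1)), (hs W.1 W.2).1.fromSpec q ∈ O → ∃ b ∈ I W, b ∉ q.asIdeal := fun W q hq => by
    obtain ⟨_, ⟨b, rfl⟩, hbq, hbO⟩ := PrimeSpectrum.isTopologicalBasis_basic_opens.exists_subset_of_mem_open
      (show q ∈ {q : PrimeSpectrum Γ(X, W.1) | (hs W.1 W.2).1.fromSpec q ∈ O} from hq)
      ((hs W.1 W.2).1.fromSpec ⁻¹ᵁ O).2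
    exact ⟨b, (PrimeSpectrum.mem_vanishingIdeal _ _).2 fun x hx => by_contra fun hbx => hx (hbO hbx), hbq⟩
  have key : ∀ W : s, letI := (f.appLE U W.1 (hs W.1 W.2).2).hom.toAlgebra
      ∃ g ∈ I W, ∃ r : Γ(Y, U), r ∉ p₀.asIdeal ∧ ∀ (p : Ideal Γ(Y, U)) [p.IsPrime], r ∉ p →
        (1 : p.ResidueField) ⊗ₜ[Γ(Y, U)] g ∈ nonZeroDivisors (p.ResidueField ⊗[Γ(Y, U)] Γ(X, W.1)) := by
    intro W
    letI := (f.appLE U W.1 (hs W.1 W.2).2).hom.toAlgebra
    haveI : Algebra.FiniteType Γ(Y, U) Γ(X, W.1) := finiteType_appLE f hU (hs W.1 W.2).1 (hs W.1 W.2).2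
    refine exists_regular_mem p₀.asIdeal (fun q hq => hmin q hq) (I W) fun z hz => ?_
    obtain ⟨j, θ, hj, -, hr, hι, -⟩ := exists_fibre_chart f hU (hs W.1 W.2).1 (hs W.1 W.2).2 p₀
    refine eq_zero_of_dominant (f.fiberι (hU.fromSpec p₀) ⁻¹ᵁ O) j
      ((fun b => (1 : p₀.asIdeal.ResidueField) ⊗ₜ[Γ(Y, U)] b) '' (I W : Set Γ(X, W.1))) (fun q hq => ?_) z
      (by rintro _ ⟨b, hb, rfl⟩; exact hz b hb)
    have hq' : f.fiberι _ (j q) ∈ O := hq
    rw [← Scheme.Hom.comp_apply, hι, Scheme.Hom.comp_apply] at hq'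
    obtain ⟨b, hb, hbq⟩ := hI' W _ hq'
    exact ⟨_, ⟨b, hb, rfl⟩, hbq⟩
  choose g hg r hr H using key
  have hηmem : genericPoint Y ∈ Y.basicOpen (∏ W : s, r W) := hp₀ ▸ (mem_basicOpen_iff hU p₀ _).2 fun hh => by
    obtain ⟨W, -, hW⟩ := p₀.isPrime.prod_mem_iff.1 hh
    exact hr W hW
  refine ⟨_, hηmem, fun y hy => ?_⟩
  obtain ⟨p, rfl⟩ := hU.range_fromSpec.ge (Y.basicOpen_le _ hy)
  choose j θ hj _ hjr hι _ using fun W : s => exists_fibre_chart f hU (hs W.1 W.2).1 (hs W.1 W.2).2 p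
  refine isSchemeTheoreticallyDominant_of_charts _ _ j hj (fun z => ?_) fun W => ?_
  · obtain ⟨W, hW⟩ := exists_mem_range_chart f hU p hcov z
    exact ⟨W, (hjr W).ge hW⟩
  · letI := (f.appLE U W.1 (hs W.1 W.2).2).hom.toAlgebra
    refine ⟨(1 : p.asIdeal.ResidueField) ⊗ₜ[Γ(Y, U)] g W, H W p.asIdeal fun hh =>
      (mem_basicOpen_iff hU p _).1 hy (Ideal.prod_mem _ (Finset.mem_univ W) hh), fun q hq => ?_⟩
    show f.fiberι _ (j W q) ∈ O
    rw [← Scheme.Hom.comp_apply, hι W, Scheme.Hom.comp_apply]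
    exact hI W _ _ (hg W) hq

end Groth.Agent.NearGen
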