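import Mathlib
import Groth.Agent.NearGen.Top

/-!
# Generic points of components of fibres
-/

set_option autoImplicit false
set_option linter.style.haveILetI false

universe u

open CategoryTheory AlgebraicGeometry TopologicalSpace

namespace Groth.Agent.NearGen

/-- In a locally noetherian scheme a closed set has empty interior iff it contains no maximal point. -/
theorem isNowhereDense_iff {T : Scheme.{u}} [IsLocallyNoetherian T] {Z : Set T} (hZ : IsClosed Z) :
    IsNowhereDense Z ↔ ∀ x ∈ Z, ∃ x', x' ⤳ x ∧ x' ≠ x := by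
  rw [hZ.isNowhereDense_iff]
  constructor
  · intro h x hx
    by_contra hno
    push Not at hno
    obtain ⟨U, hU, hxU, -⟩ := exists_isAffineOpen_mem_and_subset (X := T) (x := x) (U := ⊤) trivial
    haveI : IsNoetherianRing Γ(T, U) := IsLocallyNoetherian.component_noetherian ⟨U, hU⟩
    haveI : NoetherianSpace U := noetherianSpace_of_isAffineOpen U hU
    have hirr : closure ({⟨x, hxU⟩} : Set U) ∈ irreducibleComponents U := by
      refine ⟨isIrreducible_singleton.closure, fun s hs hle => ?_⟩
      obtain ⟨C, hC, hsC⟩ := exists_preirreducible s hs.isPreirreducible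
      haveI : QuasiSober U := U.2.isOpenEmbedding_subtypeVal.quasiSober
      obtain ⟨g, hg⟩ := QuasiSober.sober hs.closure isClosed_closure
      have h1 : g ⤳ (⟨x, hxU⟩ : U) := hg.specializes (subset_closure (hle (subset_closure rfl)))
      have h2 : g = (⟨x, hxU⟩ : U) := Subtype.ext (hno g.1 (h1.map continuous_subtype_val))
      rw [h2] at hg
      exact subset_closure.trans hg.def.ge
    obtain ⟨o, ho, hone, hole⟩ := NoetherianSpace.exists_isOpen_nonempty_subset_irreducibleComponent _ hirr
    have hsub : (Subtype.val : U → T) '' o ⊆ interior Z := by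
      refine interior_maximal ?_ (U.2.isOpenMap_subtype_val o ho)
      rintro _ ⟨z, hz, rfl⟩
      have h3 : (⟨x, hxU⟩ : U) ⤳ z := specializes_iff_mem_closure.2 (hole hz)
      exact (h3.map continuous_subtype_val).mem_closed hZ hx
    obtain ⟨z, hz⟩ := hone
    exact (Set.eq_empty_iff_forall_notMem.1 h) z.1 (hsub ⟨z, hz, rfl⟩)
  · intro h
    refine Set.eq_empty_iff_forall_notMem.2 fun x hx => ?_
    obtain ⟨ξ, hξ⟩ := QuasiSober.sober (α := T) (isIrreducible_irreducibleComponent (x := x)) isClosed_irreducibleComponent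
    have hξx : ξ ⤳ x := hξ.specializes mem_irreducibleComponent
    obtain ⟨x', hx', hne⟩ := h ξ (interior_subset (hξx.mem_open isOpen_interior hx))
    refine hne ?_
    have hle : irreducibleComponent x ⊆ closure {x'} := hξ.def ▸ closure_minimal (Set.singleton_subset_iff.2 (specializes_iff_mem_closure.1 hx')) isClosed_closure
    have heq := eq_irreducibleComponent (isIrreducible_singleton (x := x')).closure.isPreirreducible hle
    exact (IsGenericPoint.eq (hξ.def.trans heq.symm : IsGenericPoint ξ (closure {x'})) isGenericPoint_closure).symm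

/-- Nowhere density in a fibre, on the total space. -/
theorem isNowhereDense_fibre_iff {X Y : Scheme.{u}} (f : X ⟶ Y) [LocallyOfFiniteType f] (y : Y) {Z : Set X}
    (hZ : IsClosed Z) :
    IsNowhereDense (f.fiberι y ⁻¹' Z) ↔ ∀ x ∈ Z, f x = y → ∃ x', x' ⤳ x ∧ f x' = f x ∧ x' ≠ x := by
  haveI : LocallyOfFiniteType (f.fiberToSpecResidueField y) :=
    MorphismProperty.pullback_snd (P := @LocallyOfFiniteType) _ _ inferInstance
  haveI : IsLocallyNoetherian (f.fiber y) := LocallyOfFiniteType.isLocallyNoetherian (f.fiberToSpecResidueField y)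
  rw [isNowhereDense_iff (hZ.preimage (f.fiberι y).continuous)]
  have hy : ∀ z, f (f.fiberι y z) = y := fun z => (f.fiberHomeo y z).2
  constructor
  · intro h x hx hxy
    obtain ⟨z', hz', hne⟩ := h ((f.fiberHomeo y).symm ⟨x, hxy⟩) (by
      rw [Set.mem_preimage, f.fiberι_fiberHomeo_symm]; exact hx)
    refine ⟨f.fiberι y z', ?_, (hy z').trans hxy.symm, fun he => hne ?_⟩
    · have := hz'.map (f.fiberι y).continuous
      rwa [f.fiberι_fiberHomeo_symm] at this
    · exact (f.fiberι y).isEmbedding.injective (by rw [he, f.fiberι_fiberHomeo_symm])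
  · intro h z hz
    obtain ⟨x', hx', hfx, hne⟩ := h (f.fiberι y z) hz (hy z)
    refine ⟨(f.fiberHomeo y).symm ⟨x', hfx.trans (hy z)⟩, ?_, fun he => hne ?_⟩
    · refine (f.fiberι y).isEmbedding.isInducing.specializes_iff.1 ?_
      rw [f.fiberι_fiberHomeo_symm]
      exact hx'
    · rw [← he, f.fiberι_fiberHomeo_symm]

end Groth.Agent.NearGen
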